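import Cfsg.Agent.Lib.Frobenius.Action

/-!
A finite group partitioned by proper abelian subgroups of one order is a group of prime power
order (the case needed for Itô's theorem on two class sizes).
-/

set_option autoImplicit false
set_option linter.style.haveILetI false

namespace CfsgLib.EqualPartition

open Subgroup

variable {H : Type*} [Group H] [Finite H]

/-- An equally partitioned group with abelian components has prime power order. -/
theorem isPGroup_of_equal_abelian_partition (A : H → Subgroup H) (m : ℕ)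
    (hmem : ∀ x, x ∈ A x)
    (hcomm : ∀ x, x ≠ 1 → ∀ a ∈ A x, ∀ b ∈ A x, a * b = b * a)
    (hcard : ∀ x, x ≠ 1 → Nat.card (A x) = m)
    (heq : ∀ x, x ≠ 1 → ∀ y ∈ A x, y ≠ 1 → A y = A x)
    (hconj : ∀ g x y : H, y ∈ A x → g * y * g⁻¹ ∈ A (g * x * g⁻¹))
    (hproper : m < Nat.card H) : ∃ p, p.Prime ∧ IsPGroup p H := by
  classical
  haveI := Fintype.ofFinite H
  -- commuting elements of different components
  have hsymm : ∀ x y : H, x ≠ 1 → y ≠ 1 → x ∈ A y → y ∈ A x := by
    intro x y hx hy h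
    rw [heq y hy x h hx]
    exact hmem y
  have hlt : ∀ x y : H, x ≠ 1 → y ≠ 1 → Commute x y → y ∉ A x → ¬ orderOf x < orderOf y := by
    intro x y hx hy hxy hnm hlt
    have h1 : y ^ orderOf x ≠ 1 := pow_ne_one_of_lt_orderOf (orderOf_pos x).ne' hlt
    have hxy1 : x * y ≠ 1 := fun h => hnm (by
      rw [eq_inv_of_mul_eq_one_right h]; exact inv_mem (hmem x))
    have h2 : y ^ orderOf x ∈ A (x * y) := by
      have := pow_mem (hmem (x * y)) (orderOf x)
      rwa [hxy.mul_pow, pow_orderOf_eq_one, one_mul] at this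
    have h3 : A (x * y) = A y :=
      (heq _ hxy1 _ h2 h1).symm.trans (heq y hy _ (pow_mem (hmem y) _) h1)
    have h4 : x ∈ A y := by
      have := mul_mem (h3 ▸ hmem (x * y)) (inv_mem (hmem y))
      rwa [mul_inv_cancel_right] at this
    exact hnm (hsymm x y hx hy h4)
  have hord : ∀ x y : H, x ≠ 1 → y ≠ 1 → Commute x y → y ∉ A x → orderOf x = orderOf y := by
    intro x y hx hy hxy hnm
    have h1 := hlt x y hx hy hxy hnm
    have h2 := hlt y x hy hx hxy.symm (fun h => hnm (hsymm x y hx hy h))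
    omega
  have hexp : ∀ (p : ℕ) (x y : H), p.Prime → y ≠ 1 → Commute x y → x ∉ A y → p ∣ orderOf x →
      x ^ p = 1 := by
    intro p x y hp hy hxy hnm hdvd
    by_contra hne
    have hx : x ≠ 1 := fun h => hne (by rw [h, one_pow])
    have hnm' : y ∉ A x := fun h => hnm (hsymm y x hy hx h)
    have h1 : A (x ^ p) = A x := heq x hx _ (pow_mem (hmem x) p) hne
    have h2 := hord (x ^ p) y hne hy (hxy.pow_left p) (by rw [h1]; exact hnm')
    rw [← hord x y hx hy hxy hnm', orderOf_pow_of_dvd hp.ne_zero hdvd] at h2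
    exact absurd h2 (Nat.div_lt_self (orderOf_pos x) hp.one_lt).ne
  have hcop : ∀ x y : H, x ≠ 1 → y ≠ 1 → Commute x y → (orderOf x).Coprime (orderOf y) →
      x ∈ A y := by
    intro x y hx hy hxy hc
    by_contra hnm
    rw [hord x y hx hy hxy (fun h => hnm (hsymm y x hy hx h)), Nat.coprime_self] at hc
    exact hy (orderOf_eq_one_iff.1 hc)
  have hprime_dvd : ∀ r : ℕ, r.Prime → r ∣ Nat.card H → r ∣ m := by
    intro r hr hrd
    haveI := Fact.mk hr
    obtain ⟨w, hw⟩ := exists_prime_orderOf_dvd_card' r hrd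
    have hw1 : w ≠ 1 := fun h => by rw [h, orderOf_one] at hw; exact hr.ne_one hw.symm
    rw [← hw, ← hcard w hw1, ← Subgroup.orderOf_mk w (hmem w)]
    exact orderOf_dvd_natCard _
  by_contra hno
  have hother : ∀ p : ℕ, p.Prime → ∃ q, q.Prime ∧ q ≠ p ∧ q ∣ Nat.card H := by
    intro p hp
    by_contra hc
    push Not at hc
    exact hno ⟨p, hp, IsPGroup.of_card (n := (Nat.card H).primeFactorsList.length)
      (Nat.eq_prime_pow_of_unique_prime_dvd Nat.card_pos.ne' fun {t} ht htd => by
        by_contra hne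
        exact hc t ht hne htd)⟩
  -- the action of a Sylow subgroup on a component through a central element
  have setup : ∀ p q : ℕ, p.Prime → q.Prime → p ≠ q → p ∣ Nat.card H → q ∣ Nat.card H →
      ∃ r j : ℕ, r ∣ p ∧ (∀ k, p ^ k ∣ Nat.card H → p ^ k ∣ m * r) ∧ 0 < j ∧ q ^ j ∣ m ∧
        r ∣ q ^ j - 1 := by
    intro p q hp hq hpq hpd hqd
    haveI := Fact.mk hp
    haveI := Fact.mk hq
    obtain ⟨P⟩ := (inferInstance : Nonempty (Sylow p H))
    haveI : Nontrivial (P : Subgroup H) :=
      (Subgroup.nontrivial_iff_ne_bot _).2 (P.ne_bot_of_dvd_card hpd)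
    haveI := P.isPGroup'.center_nontrivial
    obtain ⟨⟨⟨z, hzP⟩, hzc⟩, hz1⟩ := exists_ne (1 : center (P : Subgroup H))
    have hz : z ≠ 1 := fun h => hz1 (Subtype.ext (Subtype.ext h))
    have hzg : ∀ g ∈ (P : Subgroup H), Commute g z := fun g hg =>
      congrArg Subtype.val (Subgroup.mem_center_iff.1 hzc ⟨g, hg⟩)
    have hAconj : ∀ g ∈ (P : Subgroup H), ∀ y ∈ A z, g * y * g⁻¹ ∈ A z := by
      intro g hg y hy
      have := hconj g z y hy
      rwa [(hzg g hg).eq, mul_inv_cancel_right] at this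
    let Q : Subgroup H :=
      { carrier := {y | y ∈ A z ∧ ∃ k, y ^ q ^ k = 1}
        one_mem' := ⟨one_mem _, 0, one_pow _⟩
        mul_mem' := by
          rintro a b ⟨ha, i, hi⟩ ⟨hb, j, hj⟩
          refine ⟨mul_mem ha hb, i + j, ?_⟩
          rw [(show Commute a b from hcomm z hz a ha b hb).mul_pow, pow_add, pow_mul, hi, one_pow,
            one_mul, mul_comm (q ^ i), pow_mul, hj, one_pow]
        inv_mem' := by
          rintro a ⟨ha, i, hi⟩
          exact ⟨inv_mem ha, i, by rw [inv_pow, hi, inv_one]⟩ }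
    have hQA : Q ≤ A z := fun y hy => hy.1
    have hQq : IsPGroup q Q := fun y => ⟨y.2.2.choose, Subtype.ext y.2.2.choose_spec⟩
    haveI hQn : Nontrivial Q := by
      obtain ⟨w, hw⟩ := exists_prime_orderOf_dvd_card' (G := A z) q
        (by rw [hcard z hz]; exact hprime_dvd q hq hqd)
      refine ⟨⟨(w : H), w.2, 1, ?_⟩, 1, fun h => ?_⟩
      · rw [pow_one, ← hw, ← Subgroup.orderOf_coe]; exact pow_orderOf_eq_one _
      · have h' : w = 1 := Subtype.ext (congrArg Subtype.val h :)
        rw [h', orderOf_one] at hw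
        exact hq.ne_one hw.symm
    have hQconj : ∀ g ∈ (P : Subgroup H), ∀ y ∈ Q, g * y * g⁻¹ ∈ Q := by
      rintro g hg y ⟨hy, k, hk⟩
      exact ⟨hAconj g hg y hy, k, by rw [conj_pow, hk, mul_one, mul_inv_cancel]⟩
    have hPN : (P : Subgroup H) ≤ normalizer (Q : Set H) := by
      intro g hg
      rw [Subgroup.mem_normalizer_iff]
      intro y
      refine ⟨hQconj g hg y, fun h => ?_⟩
      have := hQconj g⁻¹ (inv_mem hg) _ h
      simpa [mul_assoc] using this
    let φ : (P : Subgroup H) →* MulAut Q :=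
      (Subgroup.normalizerMonoidHom Q).comp (Subgroup.inclusion hPN)
    have hφ : ∀ (g : (P : Subgroup H)) (y : Q), (φ g y : H) = (g : H) * y * (g : H)⁻¹ :=
      fun g y => rfl
    have hfix : ∀ (g : (P : Subgroup H)) (y : Q), φ g y = y → y ≠ 1 → (g : H) ∈ A z := by
      intro g y hgy hy
      by_cases hg : (g : H) = 1
      · rw [hg]; exact one_mem _
      have hy1 : (y : H) ≠ 1 := fun h => hy (Subtype.ext h)
      have hc : Commute (g : H) y := by
        have := congrArg Subtype.val hgy
        rw [hφ] at this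
        exact mul_inv_eq_iff_eq_mul.1 this
      have h := hcop (g : H) y hg hy1 hc (by
        obtain ⟨i, hi⟩ := IsPGroup.iff_orderOf.1 P.isPGroup' g
        obtain ⟨j, hj⟩ := IsPGroup.iff_orderOf.1 hQq y
        rw [Subgroup.orderOf_coe, Subgroup.orderOf_coe, hi, hj]
        exact Nat.Coprime.pow _ _ ((Nat.coprime_primes hp hq).2 hpq))
      rwa [heq z hz y (hQA y.2) hy1] at h
    have htriv : ∀ g : (P : Subgroup H), (g : H) ∈ A z → φ g = 1 := by
      intro g hg
      refine MulEquiv.ext fun y => Subtype.ext ?_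
      rw [hφ, MulAut.one_apply]
      exact mul_inv_eq_iff_eq_mul.2 (hcomm z hz _ hg _ (hQA y.2))
    have hfpf : CfsgLib.Frobenius.IsFPF φ.range Q := by
      rintro ⟨_, g, rfl⟩ hne y hy
      by_contra hy1
      exact hne (Subtype.ext (htriv g (hfix g y hy hy1)))
    have hexpR : ∀ a : φ.range, a ^ p = 1 := by
      rintro ⟨_, g, rfl⟩
      apply Subtype.ext
      change φ g ^ p = 1
      rw [← map_pow]
      by_cases hgA : (g : H) ∈ A z
      · exact htriv _ (by rw [Subgroup.coe_pow]; exact pow_mem hgA _)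
      have hg1 : (g : H) ≠ 1 := fun h => hgA (by rw [h]; exact one_mem _)
      obtain ⟨k, hk⟩ := IsPGroup.iff_orderOf.1 P.isPGroup' g
      rw [← Subgroup.orderOf_coe] at hk
      have hdvd : p ∣ orderOf (g : H) := by
        rcases Nat.eq_zero_or_pos k with rfl | hk0
        · exact absurd (orderOf_eq_one_iff.1 (by rw [hk, pow_zero])) hg1
        · rw [hk]; exact dvd_pow_self p hk0.ne'
      have : g ^ p = 1 :=
        Subtype.ext (hexp p (g : H) z hp hz (hzg g g.2) hgA hdvd)
      rw [this, map_one]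
    have hRp : IsPGroup p φ.range := fun a => ⟨1, by rw [pow_one]; exact hexpR a⟩
    have hr : Nat.card φ.range ∣ p := by
      obtain ⟨k, hk⟩ := IsPGroup.iff_card.1 hRp
      rw [hk]
      suffices k ≤ 1 from (pow_dvd_pow p this).trans (dvd_of_eq (pow_one p))
      by_contra hk2
      obtain ⟨U, hU⟩ := Sylow.exists_subgroup_card_pow_prime (G := φ.range) p (n := 2)
        (by rw [hk]; exact pow_dvd_pow p (by omega))
      haveI : IsMulCommutative U := IsPGroup.isMulCommutative_of_card_eq_prime_sq hU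
      letI : MulDistribMulAction U Q := MulDistribMulAction.compHom Q U.subtype
      haveI : IsCyclic U := (hfpf.comp U.subtype U.subtype_injective).isCyclic_of_commutative
      obtain ⟨u, hu⟩ := IsCyclic.exists_generator (α := U)
      have h1 : orderOf u = p ^ 2 := by rw [orderOf_eq_card_of_forall_mem_zpowers hu, hU]
      have h2 : orderOf u ∣ p := orderOf_dvd_of_pow_eq_one (Subtype.ext (hexpR u))
      rw [h1] at h2
      have := Nat.le_of_dvd hp.pos h2
      nlinarith [hp.one_lt]
    obtain ⟨j, hj⟩ := IsPGroup.iff_card.1 hQq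
    refine ⟨Nat.card φ.range, j, hr, fun k hk => ?_, ?_, ?_, ?_⟩
    · refine (P.pow_dvd_card_of_pow_dvd_card hk).trans ?_
      rw [← φ.ker.card_mul_index, Subgroup.index_ker]
      refine mul_dvd_mul_right ?_ _
      rw [← hcard z hz, ← Subgroup.card_map_of_injective (K := φ.ker) (P : Subgroup H).subtype_injective]
      refine Subgroup.card_dvd_of_le ?_
      rintro _ ⟨g, hg, rfl⟩
      obtain ⟨y, hy⟩ := exists_ne (1 : Q)
      exact hfix g y (by rw [MonoidHom.mem_ker.1 hg]; rfl) hy
    · rcases Nat.eq_zero_or_pos j with rfl | hj0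
      · exact absurd hj (by rw [pow_zero]; exact (Finite.one_lt_card (α := Q)).ne')
      · exact hj0
    · rw [← hj, ← hcard z hz]
      exact Subgroup.card_dvd_of_le hQA
    · rw [← hj]
      exact hfpf.card_dvd_sub_one
  -- arithmetic
  obtain ⟨x₀, hx₀⟩ : ∃ x : H, x ≠ 1 := by
    by_contra hc
    push Not at hc
    have : Subsingleton H := ⟨fun a b => by rw [hc a, hc b]⟩
    exact hno ⟨2, Nat.prime_two, IsPGroup.of_card (n := 0) (by rw [pow_zero]; exact Nat.card_of_subsingleton (1 : H))⟩
  set n := (A x₀).index with hn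
  have hHmn : m * n = Nat.card H := by rw [hn, ← hcard x₀ hx₀, Subgroup.card_mul_index]
  have hm0 : 0 < m := by rw [← hcard x₀ hx₀]; exact Nat.card_pos
  have hn1 : 1 < n := by
    by_contra hc
    push Not at hc
    have := Nat.mul_le_mul_left m hc
    omega
  have hv : ∀ p k : ℕ, p.Prime → p ^ k ∣ n → k ≤ 1 := by
    intro p k hp hk
    by_contra hk2
    have hpd : p ∣ Nat.card H :=
      (dvd_pow_self p (by omega)).trans (hk.trans (Dvd.intro_left _ hHmn))
    obtain ⟨q, hq, hqp, hqd⟩ := hother p hp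
    obtain ⟨r, j, hr, hP, -⟩ := setup p q hp hq hqp.symm hpd hqd
    have h1 : p ^ (m.factorization p + k) ∣ Nat.card H := by
      rw [pow_add, ← hHmn]
      exact mul_dvd_mul (Nat.ordProj_dvd m p) hk
    have h2 := (hP _ h1).trans (mul_dvd_mul_left m hr)
    rw [show m.factorization p + k = m.factorization p + (k - 1) + 1 by omega, pow_succ,
      Nat.mul_dvd_mul_iff_right hp.pos, hp.pow_dvd_iff_le_factorization hm0.ne'] at h2
    omega
  have hnm : n ∣ m := by
    rw [Nat.dvd_iff_prime_pow_dvd_dvd]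
    intro p k hp hk
    have h1 := hv p k hp hk
    rcases Nat.eq_zero_or_pos k with rfl | hk0
    · simp
    obtain rfl : k = 1 := by omega
    rw [pow_one] at hk ⊢
    exact hprime_dvd p hp (hk.trans (Dvd.intro_left _ hHmn))
  have hfib : (m - 1) ∣ Nat.card H - 1 := by
    rw [Nat.card_eq_fintype_card, ← Finset.card_univ,
      ← Finset.card_erase_of_mem (Finset.mem_univ (1 : H)),
      Finset.card_eq_sum_card_image A (Finset.univ.erase 1)]
    refine Finset.dvd_sum fun B hB => ?_
    obtain ⟨x, hx, rfl⟩ := Finset.mem_image.1 hB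
    have hx1 : x ≠ 1 := (Finset.mem_erase.1 hx).1
    have : (Finset.univ.erase 1).filter (fun y => A y = A x) =
        ((A x : Set H).toFinset).erase 1 := by
      ext y
      simp only [Finset.mem_filter, Finset.mem_erase, Finset.mem_univ, and_true, Set.mem_toFinset,
        SetLike.mem_coe]
      exact ⟨fun h => ⟨h.1, h.2 ▸ hmem y⟩, fun h => ⟨h.1, heq x hx1 y h.2 h.1⟩⟩
    rw [this, Finset.card_erase_of_mem (by simp), Set.toFinset_card, ← Nat.card_eq_fintype_card]
    exact dvd_of_eq (by rw [← hcard x hx1]; rfl)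
  have hnle : n ≤ m := Nat.le_of_dvd hm0 hnm
  have heqnm : n = m := by
    have h1 : Nat.card H - 1 = n * (m - 1) + (n - 1) := by
      rw [← hHmn]
      obtain ⟨a, rfl⟩ : ∃ a, m = a + 1 := ⟨m - 1, by omega⟩
      simp only [Nat.add_sub_cancel]
      rw [Nat.add_mul, one_mul, mul_comm a n]
      omega
    rw [h1, Nat.dvd_add_right (dvd_mul_left _ _)] at hfib
    have := Nat.le_of_dvd (by omega) hfib
    omega
  -- the largest prime gives a contradiction
  have hne : (Nat.card H).primeFactors.Nonempty :=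
    Nat.nonempty_primeFactors.2 (by rw [← hHmn]; nlinarith)
  set p := (Nat.card H).primeFactors.max' hne with hpdef
  obtain ⟨hp, hpd, -⟩ := Nat.mem_primeFactors.1 (Finset.max'_mem _ hne)
  obtain ⟨q, hq, hqp, hqd⟩ := hother p hp
  have hqlt : q < p := lt_of_le_of_ne
    (Finset.le_max' _ q (Nat.mem_primeFactors.2 ⟨hq, hqd, Nat.card_pos.ne'⟩)) hqp
  obtain ⟨r, j, hr, hP, hj0, hjm, hjd⟩ := setup p q hp hq hqp.symm hpd hqd
  obtain rfl : j = 1 := by
    have := hv q j hq (heqnm ▸ hjm)
    omega
  rcases (Nat.dvd_prime hp).1 hr with rfl | rfl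
  · have h2 : p ^ 2 ∣ Nat.card H := by
      rw [sq, ← hHmn, heqnm]
      exact mul_dvd_mul (hprime_dvd p hp hpd) (hprime_dvd p hp hpd)
    have h3 := hP 2 h2
    rw [mul_one, ← heqnm] at h3
    have := hv p 2 hp h3
    omega
  · rw [pow_one] at hjd
    have := Nat.le_of_dvd (by have := hq.two_le; omega) hjd
    omega

end CfsgLib.EqualPartition
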