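import Mathlib

/-!
# The subgroup generated by the elements of minimal class size (Mann, Isaacs)

If `A` is a normal abelian self-centralizing subgroup of a finite group `G` and `M` is generated
by elements whose class size is `1` or the least noncentral class size `m`, then `M` is nilpotent
of class at most `3`.
-/

namespace CfsgLib.ClassSize

open scoped commutatorElement

variable {G : Type*} [Group G] [Finite G]

theorem index_centralizer_eq_one_iff (x : G) :
    (Subgroup.centralizer ({x} : Set G)).index = 1 ↔ x ∈ Subgroup.center G := by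
  rw [Subgroup.index_eq_one, Subgroup.mem_center_iff]
  constructor
  · intro h g
    exact Subgroup.mem_centralizer_singleton_iff.1 (h ▸ Subgroup.mem_top g)
  · intro h
    exact eq_top_iff.2 fun g _ => Subgroup.mem_centralizer_singleton_iff.2 (h g)

/-- Commutators of a normal abelian subgroup with an element of minimal class size are central. -/
theorem commutator_mem_center_of_minimal (A : Subgroup G) [A.Normal] (hA : IsMulCommutative A)
    (m : ℕ) (hmin : ∀ y : G, 1 < (Subgroup.centralizer ({y} : Set G)).index →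
      m ≤ (Subgroup.centralizer ({y} : Set G)).index)
    {x : G} (hx : (Subgroup.centralizer ({x} : Set G)).index = m) {a : G} (ha : a ∈ A) :
    ⁅a, x⁆ ∈ Subgroup.center G := by
  classical
  have hAc : ∀ u ∈ A, ∀ v ∈ A, u * v = v * u := fun u hu v hv =>
    congrArg Subtype.val (hA.is_comm.comm ⟨u, hu⟩ ⟨v, hv⟩)
  set C := Subgroup.centralizer ({x} : Set G) with hC
  have hcmem : ∀ u ∈ A, ⁅u, x⁆ ∈ A := fun u hu => by
    rw [commutatorElement_def]
    have h := A.mul_mem hu ((‹A.Normal›).conj_mem _ (A.inv_mem hu) x)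
    simpa [mul_assoc] using h
  -- `u ↦ [u, x]` is a homomorphism on `A`
  let f : A →* A :=
    { toFun := fun u => ⟨⁅(u : G), x⁆, hcmem u u.2⟩
      map_one' := Subtype.ext (by simp)
      map_mul' := fun u v => Subtype.ext (by
        have e : ⁅(u : G) * v, x⁆ = (u : G) * ⁅(v : G), x⁆ * (u : G)⁻¹ * ⁅(u : G), x⁆ := by
          simp only [commutatorElement_def]; group
        have hcu := hAc _ u.2 _ (hcmem _ v.2)
        change ⁅(u : G) * v, x⁆ = ⁅(u : G), x⁆ * ⁅(v : G), x⁆
        rw [e, hcu, mul_inv_cancel_right, hAc _ (hcmem _ v.2) _ (hcmem _ u.2)]) }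
  by_cases hb1 : ⁅a, x⁆ = 1
  · rw [hb1]; exact one_mem _
  set b : A := ⟨⁅a, x⁆, hcmem a ha⟩ with hb
  set I := f.range with hI
  have hbI : b ∈ I := ⟨⟨a, ha⟩, rfl⟩
  have hker : Nat.card f.ker = Nat.card (A ⊓ C : Subgroup G) := by
    refine Nat.card_congr
      { toFun := fun u => ⟨(u : A), (u : A).2, ?_⟩
        invFun := fun u => ⟨⟨(u : G), u.2.1⟩, ?_⟩
        left_inv := fun u => rfl
        right_inv := fun u => rfl }
    · have h : ⁅((u : A) : G), x⁆ = 1 := congrArg Subtype.val u.2
      exact Subgroup.mem_centralizer_singleton_iff.2 (commutatorElement_eq_one_iff_commute.1 h).eq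
    · exact Subtype.ext (commutatorElement_eq_one_iff_commute.2
        (Subgroup.mem_centralizer_singleton_iff.1 u.2.2))
  have hAcard : Nat.card A = Nat.card I * Nat.card (A ⊓ C : Subgroup G) := by
    rw [← hker, hI, ← Subgroup.index_ker, mul_comm, Subgroup.card_mul_index]
  -- `C` permutes the nontrivial elements of `I`
  set D := C ⊓ Subgroup.centralizer ({(b : G)} : Set G) with hD
  let g : C ⧸ D.subgroupOf C → {i : I // i ≠ 1} := Quotient.lift
    (fun c : C => ⟨⟨⟨⁅(c : G) * a * (c : G)⁻¹, x⁆, hcmem _ ((‹A.Normal›).conj_mem a ha c)⟩,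
      ⟨⟨_, (‹A.Normal›).conj_mem a ha (c : G)⟩, rfl⟩⟩, fun h => hb1 (by
        have h' : ⁅(c : G) * a * (c : G)⁻¹, x⁆ = 1 :=
          congrArg (fun z : I => ((z : A) : G)) h
        have hcx : (c : G) * x * (c : G)⁻¹ = x :=
          mul_inv_eq_iff_eq_mul.2 (Subgroup.mem_centralizer_singleton_iff.1 c.2)
        rw [commutatorElement_eq_one_iff_commute] at h' ⊢
        have h2 : Commute ((c : G) * a * (c : G)⁻¹) ((c : G) * x * (c : G)⁻¹) := by rwa [hcx]
        exact Commute.conj_iff _ |>.1 h2)⟩)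
    (fun c c' hcc => by
      have h : (c : G)⁻¹ * c' ∈ D := (QuotientGroup.leftRel_apply.1 hcc :)
      refine Subtype.ext (Subtype.ext (Subtype.ext ?_))
      have key : ∀ w : G, w ∈ C → ⁅w * a * w⁻¹, x⁆ = w * ⁅a, x⁆ * w⁻¹ := fun w hw => by
        have hwx : w * x * w⁻¹ = x :=
          mul_inv_eq_iff_eq_mul.2 (Subgroup.mem_centralizer_singleton_iff.1 hw)
        rw [conjugate_commutatorElement, hwx]
      change ⁅(c : G) * a * (c : G)⁻¹, x⁆ = ⁅(c' : G) * a * (c' : G)⁻¹, x⁆
      rw [key _ c.2, key _ c'.2]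
      have h2 := Subgroup.mem_centralizer_singleton_iff.1 h.2
      change (c : G)⁻¹ * c' * ⁅a, x⁆ = ⁅a, x⁆ * ((c : G)⁻¹ * c') at h2
      calc (c : G) * ⁅a, x⁆ * (c : G)⁻¹ = (c : G) * (⁅a, x⁆ * ((c : G)⁻¹ * c')) * (c' : G)⁻¹ := by group
        _ = (c' : G) * ⁅a, x⁆ * (c' : G)⁻¹ := by rw [← h2]; group)
  have hg : Function.Injective g := by
    intro u v
    refine Quotient.inductionOn₂' u v fun c c' huv => ?_
    refine Quotient.sound' (QuotientGroup.leftRel_apply.2 ?_)
    change (c : G)⁻¹ * c' ∈ D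
    have hw := C.mul_mem (C.inv_mem c.2) c'.2
    refine ⟨hw, Subgroup.mem_centralizer_singleton_iff.2 ?_⟩
    have h : ⁅(c : G) * a * (c : G)⁻¹, x⁆ = ⁅(c' : G) * a * (c' : G)⁻¹, x⁆ :=
      congrArg (fun z : {i : I // i ≠ 1} => (((z : I) : A) : G)) huv
    have key : ∀ w : G, w ∈ C → ⁅w * a * w⁻¹, x⁆ = w * ⁅a, x⁆ * w⁻¹ := fun w hw => by
      have hwx : w * x * w⁻¹ = x :=
        mul_inv_eq_iff_eq_mul.2 (Subgroup.mem_centralizer_singleton_iff.1 hw)
      rw [conjugate_commutatorElement, hwx]
    rw [key _ c.2, key _ c'.2] at h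
    change (c : G)⁻¹ * c' * ⁅a, x⁆ = ⁅a, x⁆ * ((c : G)⁻¹ * c')
    calc (c : G)⁻¹ * c' * ⁅a, x⁆ = (c : G)⁻¹ * ((c' : G) * ⁅a, x⁆ * (c' : G)⁻¹) * c' := by group
      _ = ⁅a, x⁆ * ((c : G)⁻¹ * c') := by rw [← h]; group
  have hidx : (D.subgroupOf C).index < Nat.card I := by
    rw [Subgroup.index_eq_card]
    exact lt_of_le_of_lt (Nat.card_le_card_of_injective g hg)
      (Finite.card_subtype_lt (fun h : (1 : I) ≠ 1 => h rfl))
  -- so the centralizer of `b` is larger than `C`
  set E := Subgroup.centralizer ({(b : G)} : Set G) with hE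
  have hAE : A ≤ E := fun u hu =>
    Subgroup.mem_centralizer_singleton_iff.2 (hAc u hu _ b.2)
  have hDE : D ≤ E := inf_le_right
  have hprod : Nat.card A * Nat.card D ≤ Nat.card E * Nat.card (A ⊓ D : Subgroup G) := by
    have h := Subgroup.card_mul_index (A.subgroupOf E)
    have h2 := Subgroup.card_mul_index (A.subgroupOf D)
    rw [Nat.card_congr (Subgroup.subgroupOfEquivOfLe hAE).toEquiv] at h
    have h3 : (A.subgroupOf D).index ≤ (A.subgroupOf E).index := by
      change A.relIndex D ≤ A.relIndex E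
      exact Subgroup.relIndex_le_of_le_right hDE (Subgroup.index_ne_zero_of_finite (H := A.subgroupOf E))
    have h4 : Nat.card (A.subgroupOf D) = Nat.card (A ⊓ D : Subgroup G) := by
      rw [← Subgroup.inf_subgroupOf_right]
      exact Nat.card_congr (Subgroup.subgroupOfEquivOfLe inf_le_right).toEquiv
    rw [h4] at h2
    calc Nat.card A * Nat.card D = Nat.card A * (A.subgroupOf D).index * Nat.card (A ⊓ D : Subgroup G) := by
          rw [← h2]; ring
      _ ≤ Nat.card A * (A.subgroupOf E).index * Nat.card (A ⊓ D : Subgroup G) :=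
          Nat.mul_le_mul_right _ (Nat.mul_le_mul_left _ h3)
      _ = _ := by rw [h]
  have hAD : (A ⊓ D : Subgroup G) = A ⊓ C := by
    refine le_antisymm (inf_le_inf le_rfl inf_le_left) (le_inf inf_le_left (le_inf inf_le_right ?_))
    exact inf_le_left.trans hAE
  rw [hAD] at hprod
  have hC' : Nat.card C = Nat.card D * (D.subgroupOf C).index := by
    rw [← Nat.card_congr (Subgroup.subgroupOfEquivOfLe (inf_le_left : D ≤ C)).toEquiv,
      Subgroup.card_mul_index]
  have hlt : Nat.card C < Nat.card E := by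
    have hpos : 0 < Nat.card (A ⊓ C : Subgroup G) := Nat.card_pos
    refine Nat.lt_of_mul_lt_mul_right (a := Nat.card (A ⊓ C : Subgroup G)) (lt_of_lt_of_le ?_ hprod)
    rw [hAcard, hC']
    calc Nat.card D * (D.subgroupOf C).index * Nat.card (A ⊓ C : Subgroup G)
        < Nat.card D * Nat.card I * Nat.card (A ⊓ C : Subgroup G) :=
          Nat.mul_lt_mul_of_pos_right (Nat.mul_lt_mul_of_pos_left hidx Nat.card_pos) hpos
      _ = _ := by ring
  rw [← index_centralizer_eq_one_iff]
  by_contra hne
  have h1 : 1 < (Subgroup.centralizer ({⁅a, x⁆} : Set G)).index := by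
    have : (Subgroup.centralizer ({⁅a, x⁆} : Set G)).index ≠ 0 := Subgroup.index_ne_zero_of_finite
    omega
  have h2 := hmin _ h1
  rw [← hx] at h2
  have e1 := C.card_mul_index
  have e2 := E.card_mul_index
  have : Nat.card C * C.index < Nat.card E * E.index :=
    lt_of_lt_of_le (Nat.mul_lt_mul_of_pos_right hlt (Nat.pos_of_ne_zero Subgroup.index_ne_zero_of_finite))
      (Nat.mul_le_mul_left _ h2)
  omega

/-- **Mann**: the subgroup generated by elements of the two smallest class sizes has class at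
most three, if some normal abelian subgroup is self-centralizing. -/
theorem lowerCentralSeries_minClass (A : Subgroup G) [A.Normal] (hA : IsMulCommutative A)
    (hCA : Subgroup.centralizer (A : Set G) ≤ A) (m : ℕ)
    (hmin : ∀ y : G, 1 < (Subgroup.centralizer ({y} : Set G)).index →
      m ≤ (Subgroup.centralizer ({y} : Set G)).index)
    (M : Subgroup G) (hM : M ≤ Subgroup.closure {x : G |
      (Subgroup.centralizer ({x} : Set G)).index = 1 ∨ (Subgroup.centralizer ({x} : Set G)).index = m}) :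
    M.lowerCentralSeries 3 = ⊥ := by
  -- the elements acting trivially on `A` modulo the centre form a subgroup
  have hmem : ∀ {a y : G}, a ∈ A → ⁅a, y⁆ ∈ Subgroup.center G → ∀ {z : G},
      ⁅a, z⁆ ∈ Subgroup.center G → ⁅a, y * z⁆ ∈ Subgroup.center G := by
    intro a y _ hy z hz
    have e : ⁅a, y * z⁆ = ⁅a, y⁆ * (y * ⁅a, z⁆ * y⁻¹) := by
      simp only [commutatorElement_def]; group
    rw [e]
    exact mul_mem hy ((inferInstance : (Subgroup.center G).Normal).conj_mem _ hz y)
  let K : Subgroup G :=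
    { carrier := {y | ∀ a ∈ A, ⁅a, y⁆ ∈ Subgroup.center G}
      one_mem' := fun a _ => by rw [commutatorElement_one_right]; exact one_mem _
      mul_mem' := fun hy hz a ha => hmem ha (hy a ha) (hz a ha)
      inv_mem' := fun {y} hy a ha => by
        have e : ⁅a, y⁻¹⁆ = y⁻¹ * (⁅a, y⁆)⁻¹ * y⁻¹⁻¹ := by
          simp only [commutatorElement_def]; group
        rw [e]
        exact (inferInstance : (Subgroup.center G).Normal).conj_mem _ (inv_mem (hy a ha)) y⁻¹ }
  have hK : M ≤ K := hM.trans ((Subgroup.closure_le _).2 (by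
    intro y hy a ha
    rcases hy with hy | hy
    · rw [index_centralizer_eq_one_iff, Subgroup.mem_center_iff] at hy
      rw [commutatorElement_eq_one_iff_commute.2 (hy a)]
      exact one_mem _
    · exact commutator_mem_center_of_minimal A hA m hmin hy ha))
  -- three subgroups lemma
  have hAM : ⁅A, M⁆ ≤ Subgroup.center G := Subgroup.commutator_le.2 fun a ha y hy => hK hy a ha
  have h0 : ⁅⁅A, M⁆, M⁆ = ⊥ := by
    rw [eq_bot_iff]
    refine (Subgroup.commutator_mono hAM le_top).trans ?_
    exact (Subgroup.commutator_eq_bot_iff_le_centralizer.2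
      (fun z hz => Subgroup.mem_centralizer_iff.2 fun g _ => Subgroup.mem_center_iff.1 hz g)).le
  have h1 : ⁅⁅M, A⁆, M⁆ = ⊥ := by rw [Subgroup.commutator_comm M A, h0]
  have h2 : ⁅⁅M, M⁆, A⁆ = ⊥ := Subgroup.commutator_commutator_eq_bot_of_rotate h1 h0
  have h3 : ⁅M, M⁆ ≤ A := (Subgroup.commutator_eq_bot_iff_le_centralizer.1 h2).trans hCA
  rw [Subgroup.lowerCentralSeries_succ, Subgroup.lowerCentralSeries_succ,
    Subgroup.lowerCentralSeries_succ, Subgroup.lowerCentralSeries_zero, eq_bot_iff, ← h0]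
  exact Subgroup.commutator_mono (Subgroup.commutator_mono h3 le_rfl) le_rfl

theorem upperCentralSeries_minClass (A : Subgroup G) [A.Normal] (hA : IsMulCommutative A)
    (hCA : Subgroup.centralizer (A : Set G) ≤ A) (m : ℕ)
    (hmin : ∀ y : G, 1 < (Subgroup.centralizer ({y} : Set G)).index →
      m ≤ (Subgroup.centralizer ({y} : Set G)).index)
    (M : Subgroup G) (hM : M ≤ Subgroup.closure {x : G |
      (Subgroup.centralizer ({x} : Set G)).index = 1 ∨ (Subgroup.centralizer ({x} : Set G)).index = m}) :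
    Subgroup.upperCentralSeries M 3 = ⊤ := by
  have h := lowerCentralSeries_minClass A hA hCA m hmin M hM
  rw [← Subgroup.top_subtype_lowerCentralSeries,
    Subgroup.map_eq_bot_iff_of_injective _ M.subtype_injective] at h
  haveI : Group.IsNilpotent M := (Subgroup.nilpotent_iff_lowerCentralSeries).2 ⟨3, h⟩
  exact Subgroup.lowerCentralSeries_eq_bot_iff_upperCentralSeries_eq_top.1 h

end CfsgLib.ClassSize
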