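import Cfsg.Agent.Lib.ClassSize.SquarefreeTools

/-!
If the smallest prime `p` has an elementary abelian Sylow subgroup and `p²` divides no class size of
an element of order prime to `p`, then there is a normal `p`-complement.
-/

set_option autoImplicit false
set_option linter.style.haveILetI false
set_option linter.unusedSectionVars false

namespace CfsgLib.SquarefreeClass

open Subgroup

universe u

/-- The hypotheses of the complement theorem. -/
def ElemHyp (p : ℕ) (G : Type u) [Group G] : Prop :=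
  (∀ r : ℕ, r.Prime → r ∣ Nat.card G → p ≤ r) ∧
  (∀ P : Sylow p G, ∀ a ∈ (P : Subgroup G), ∀ b ∈ (P : Subgroup G), a ^ p = 1 ∧ a * b = b * a) ∧
  ∀ x : G, ¬ p ∣ orderOf x → ¬ p ^ 2 ∣ (centralizer ({x} : Set G)).index

variable {G : Type u} [Group G] [Finite G] {p : ℕ} [hp : Fact p.Prime]

theorem ElemHyp.quotient (h : ElemHyp p G) (Z : Subgroup G) [Z.Normal] : ElemHyp p (G ⧸ Z) := by
  obtain ⟨hmin, helem, hreg⟩ := h
  refine ⟨fun r hr hd => hmin r hr (hd.trans (card_quotient_dvd_card Z)), fun P a ha b hb => ?_,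
    fun x hx => ?_⟩
  · obtain ⟨P₀⟩ := (inferInstance : Nonempty (Sylow p G))
    obtain ⟨g, hg⟩ := MulAction.exists_smul_eq (G ⧸ Z)
      (P₀.mapSurjective (QuotientGroup.mk'_surjective Z)) P
    rw [← hg] at ha hb
    obtain ⟨_, ⟨a₀, ha₀, rfl⟩, rfl⟩ := ha
    obtain ⟨_, ⟨b₀, hb₀, rfl⟩, rfl⟩ := hb
    obtain ⟨h1, h2⟩ := helem P₀ a₀ ha₀ b₀ hb₀
    constructor
    · change MulAut.conj g (QuotientGroup.mk' Z a₀) ^ p = 1
      rw [← map_pow, ← map_pow, h1, map_one, map_one]
    · change MulAut.conj g (QuotientGroup.mk' Z a₀) * MulAut.conj g (QuotientGroup.mk' Z b₀) =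
        MulAut.conj g (QuotientGroup.mk' Z b₀) * MulAut.conj g (QuotientGroup.mk' Z a₀)
      rw [← map_mul, ← map_mul, h2, map_mul, map_mul]
  · induction x using QuotientGroup.induction_on with | _ x => ?_
    obtain ⟨i, hi, hio⟩ := exists_pow_coprime_lift (QuotientGroup.mk' Z) x hx
    intro hd
    refine hreg (x ^ i) hio (hd.trans ?_)
    refine Dvd.dvd.trans (index_dvd_of_le ?_)
      (index_map_dvd (H := centralizer ({x ^ i} : Set G)) (QuotientGroup.mk'_surjective Z))
    rintro _ ⟨c, hc, rfl⟩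
    rw [mem_centralizer_singleton_iff, ← QuotientGroup.mk'_apply, ← hi, ← map_mul, ← map_mul,
      mem_centralizer_singleton_iff.1 hc]

theorem ElemHyp.centralizer (h : ElemHyp p G) (u : G) (hu : ∃ k, u ^ p ^ k = 1) (H : Subgroup G)
    (hH : H = Subgroup.centralizer ({u} : Set G)) : ElemHyp p H := by
  obtain ⟨hmin, helem, hreg⟩ := h
  refine ⟨fun r hr hd => hmin r hr (hd.trans (card_subgroup_dvd_card H)), fun P a ha b hb => ?_,
    fun y hy => ?_⟩
  · obtain ⟨P', hP'⟩ := (P.isPGroup'.map H.subtype).exists_le_sylow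
    obtain ⟨h1, h2⟩ := helem P' a (hP' ⟨a, ha, rfl⟩) b (hP' ⟨b, hb, rfl⟩)
    exact ⟨Subtype.ext (by simpa using h1), Subtype.ext h2⟩
  · exact not_sq_dvd_centralizer (fun P a ha b hb => (helem P a ha b hb).2) u hu H hH y
      (hreg y (by rwa [Subgroup.orderOf_coe]))

theorem not_sq_aux (h : ElemHyp p G) (hno : ¬ Cfsg.HasNormalPComplement p G)
    (hsub : ∀ u : G, u ≠ 1 → u ^ p = 1 →
      Cfsg.HasNormalPComplement p (Subgroup.centralizer ({u} : Set G))) : False := by
  classical
  obtain ⟨hmin, helem, hreg⟩ := h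
  obtain ⟨P⟩ := (inferInstance : Nonempty (Sylow p G))
  haveI := Fintype.ofFinite G
  set N := normalizer ((P : Subgroup G) : Set G) with hN
  set C := Subgroup.centralizer ((P : Subgroup G) : Set G) with hC
  have hPC : (P : Subgroup G) ≤ C := fun a ha =>
    mem_centralizer_iff.2 fun b hb => (helem P b hb a ha).2
  -- a `p'`-element of `N` outside `C`
  have hNC : ∀ g ∈ N, g ∉ C → ∃ h ∈ zpowers g, ¬ p ∣ orderOf h ∧ h ∈ N ∧ h ∉ C := by
    intro g hg hgC
    obtain ⟨a, b, ha, hb, hab, -, ⟨k, hk⟩, hbo⟩ := exists_parts (p := p) g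
    refine ⟨b, hb, hbo, zpowers_le.2 hg hb, fun hbC => hgC ?_⟩
    rw [← hab]
    exact mul_mem (hPC (CfsgLib.Transfer.isPGroup_mem_of_mem_normalizer P (zpowers_le.2 hg ha) k hk)) hbC
  obtain ⟨g₀, hg₀N, hg₀C⟩ : ∃ g ∈ N, g ∉ C := by
    by_contra hc
    push Not at hc
    exact hno (CfsgLib.Transfer.hasNormalPComplement_of_normalizer_le P fun g hg => hc g hg)
  -- fixed-point-freeness
  have hfix : ∀ g ∈ N, ∀ u ∈ (P : Subgroup G), u ≠ 1 → g * u = u * g → g ∈ C := by
    intro g hg u hu hu1 hgu
    by_contra hgC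
    obtain ⟨b, hb, hbo, hbN, hbC⟩ := hNC g hg hgC
    apply hbC
    obtain ⟨i, rfl⟩ := mem_zpowers_iff.1 hb
    have hbu : g ^ i ∈ Subgroup.centralizer ({u} : Set G) :=
      mem_centralizer_singleton_iff.2 ((show Commute g u from hgu).zpow_left i).eq
    set H := Subgroup.centralizer ({u} : Set G) with hH
    have hPH : (P : Subgroup G) ≤ H := fun a ha =>
      mem_centralizer_singleton_iff.2 (helem P a ha u hu).2
    have hF := CfsgLib.Transfer.frobeniusCond_of_hasNormalPComplement
      (hsub u hu1 (helem P u hu u hu).1)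
    have hb' := hF ((P : Subgroup G).subgroupOf H) P.isPGroup'.comap_subtype ⟨g ^ i, hbu⟩ (by
      rw [mem_normalizer_iff]
      rintro ⟨a, ha⟩
      rw [mem_subgroupOf, mem_subgroupOf]
      exact mem_normalizer_iff.1 hbN a) (by
      rw [Subgroup.orderOf_mk]
      exact (hp.out.coprime_iff_not_dvd.2 hbo).symm)
    rw [mem_centralizer_iff]
    intro a ha
    exact congrArg Subtype.val (mem_centralizer_iff.1 hb' ⟨a, hPH ha⟩ (mem_subgroupOf.2 ha))
  -- hyperplanes
  let IsHyp : Subgroup G → Prop := fun M =>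
    M ≤ (P : Subgroup G) ∧ Nat.card (P : Subgroup G) = p * Nat.card M
  have hhyp : ∀ g ∈ N, ∀ M, IsHyp M → (∀ m ∈ M, g * m * g⁻¹ ∈ M) → g ∈ C := by
    intro g hg M hM hgM
    by_contra hgC
    obtain ⟨b, hb, hbo, hbN, hbC⟩ := hNC g hg hgC
    obtain ⟨i, rfl⟩ := mem_zpowers_iff.1 hb
    set h := g ^ i with hh
    have hhM : ∀ m ∈ M, h * m * h⁻¹ ∈ M := by
      have hgn : g ∈ normalizer (M : Set G) := by
        have hmap : M.map (MulAut.conj g).toMonoidHom = M := by
          refine Subgroup.eq_of_le_of_card_ge ?_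
            (card_map_of_injective (MulAut.conj g).injective).ge
          rintro _ ⟨m, hm, rfl⟩
          exact hgM m hm
        rw [mem_normalizer_iff]
        intro m
        refine ⟨hgM m, fun hm => ?_⟩
        rw [← hmap] at hm
        obtain ⟨m', hm', he⟩ := hm
        have : m' = m := (MulAut.conj g).injective he
        rw [← this]
        exact hm'
      exact fun m hm => (mem_normalizer_iff.1 (zpow_mem hgn i) m).1 hm
    obtain ⟨v, hvP, hvM⟩ : ∃ v ∈ (P : Subgroup G), v ∉ M := by
      by_contra hc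
      push Not at hc
      have h1 := card_le_of_le (show (P : Subgroup G) ≤ M from hc)
      rw [hM.2] at h1
      have := Nat.card_pos (α := M)
      nlinarith [hp.out.two_le]
    have hpow : ∀ a ∈ (P : Subgroup G), a ^ p = 1 := fun a ha => (helem P a ha a ha).1
    have hcomm : ∀ a ∈ (P : Subgroup G), ∀ b ∈ (P : Subgroup G), Commute a b := fun a ha b hb =>
      (helem P a ha b hb).2
    -- every element of `P` is `v ^ i * m`
    have hsplit : ∀ a ∈ (P : Subgroup G), ∃ (k : ℕ) (m : G), k < p ∧ m ∈ M ∧ a = v ^ k * m := by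
      let f : Fin p × M → (P : Subgroup G) := fun u =>
        ⟨v ^ (u.1 : ℕ) * u.2, mul_mem (pow_mem hvP _) (hM.1 u.2.2)⟩
      have hf : Function.Injective f := by
        have key : ∀ (k l : Fin p) (m m' : M), (k : ℕ) ≤ l → v ^ (k : ℕ) * (m : G) = v ^ (l : ℕ) * m' →
            (k : ℕ) = l := by
          intro k l m m' hkl he
          by_contra hne
          apply hvM
          have h1 : v ^ ((l : ℕ) - k) ∈ M := by
            have : v ^ ((l : ℕ) - k) = (m : G) * (m' : G)⁻¹ := by
              rw [eq_mul_inv_iff_mul_eq]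
              apply mul_left_cancel (a := v ^ (k : ℕ))
              rw [← mul_assoc, ← pow_add, Nat.add_sub_cancel' hkl, he]
            rw [this]
            exact mul_mem m.2 (inv_mem m'.2)
          have hcop : ((l : ℕ) - k).Coprime (orderOf v) := by
            refine Nat.Coprime.coprime_dvd_right (orderOf_dvd_of_pow_eq_one (hpow v hvP)) ?_
            refine (hp.out.coprime_iff_not_dvd.2 fun hd => ?_).symm
            have := Nat.le_of_dvd (by omega) hd
            have := l.2
            omega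
          obtain ⟨t, ht⟩ := exists_pow_eq_self_of_coprime hcop
          rw [← ht]
          exact pow_mem h1 t
        rintro ⟨k, m⟩ ⟨l, m'⟩ he
        have he' : v ^ (k : ℕ) * (m : G) = v ^ (l : ℕ) * m' := congrArg Subtype.val he
        have hkl : k = l := Fin.ext (by
          rcases Nat.le_total (k : ℕ) l with hle | hle
          · exact key k l m m' hle he'
          · exact (key l k m' m hle he'.symm).symm)
        subst hkl
        exact Prod.ext rfl (Subtype.ext (mul_left_cancel he'))
      have hsurj := (hf.bijective_of_nat_card_le (by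
        rw [Nat.card_prod, Nat.card_fin, hM.2])).2
      intro a ha
      obtain ⟨⟨k, m⟩, hkm⟩ := hsurj ⟨a, ha⟩
      exact ⟨k, m, k.2, m.2, (congrArg Subtype.val hkm).symm⟩
    have hhP : ∀ a ∈ (P : Subgroup G), h * a * h⁻¹ ∈ (P : Subgroup G) := fun a ha =>
      (mem_normalizer_iff.1 hbN a).1 ha
    obtain ⟨j, m₀, hjp, hm₀, hj⟩ := hsplit _ (hhP v hvP)
    -- the automorphism induced on `P / M` is trivial
    have hiter : ∀ k : ℕ, ∃ m ∈ M, h ^ k * v * (h ^ k)⁻¹ = v ^ (j ^ k) * m := by
      intro k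
      induction k with
      | zero => exact ⟨1, one_mem _, by simp⟩
      | succ k ih =>
        obtain ⟨m, hm, hk⟩ := ih
        refine ⟨m₀ ^ (j ^ k) * (h * m * h⁻¹), mul_mem (pow_mem hm₀ _) (hhM m hm), ?_⟩
        calc h ^ (k + 1) * v * (h ^ (k + 1))⁻¹ = h * (h ^ k * v * (h ^ k)⁻¹) * h⁻¹ := by
              rw [pow_succ']; group
          _ = h * (v ^ (j ^ k) * m) * h⁻¹ := by rw [hk]
          _ = (h * v * h⁻¹) ^ (j ^ k) * (h * m * h⁻¹) := by rw [conj_pow]; group
          _ = v ^ (j ^ (k + 1)) * (m₀ ^ (j ^ k) * (h * m * h⁻¹)) := by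
            rw [hj, (hcomm v hvP m₀ (hM.1 hm₀) |>.pow_left j).mul_pow, ← pow_mul, mul_assoc,
              pow_succ']
    have hj1 : j = 1 := by
      obtain ⟨m, hm, hk⟩ := hiter (orderOf h)
      rw [pow_orderOf_eq_one, one_mul, inv_one, mul_one] at hk
      haveI := NeZero.of_pos hp.out.pos
      have hmod : ((j : ZMod p)) ^ orderOf h = 1 := by
        have hne : ((j ^ orderOf h : ℕ) : ZMod p) = ((1 : ℕ) : ZMod p) := by
          by_contra hne
          apply hvM
          have h1 : v ^ ((((j ^ orderOf h : ℕ) : ZMod p) - 1).val) ∈ M := by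
            set d := (((j ^ orderOf h : ℕ) : ZMod p) - 1).val with hd
            have hcong : (d + 1) ≡ j ^ orderOf h [MOD p] := by
              rw [← ZMod.natCast_eq_natCast_iff]
              push_cast
              rw [hd, ZMod.natCast_zmod_val]
              push_cast
              ring
            have : v ^ (d + 1) = v ^ (j ^ orderOf h) :=
              pow_eq_pow_iff_modEq.2 (hcong.of_dvd (orderOf_dvd_of_pow_eq_one (hpow v hvP)))
            have h2 : v ^ d = m⁻¹ := by
              rw [eq_inv_iff_mul_eq_one]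
              apply mul_left_cancel (a := v)
              rw [mul_one, ← mul_assoc, ← pow_succ', this, ← hk]
            rw [h2]
            exact inv_mem hm
          have hcop : ((((j ^ orderOf h : ℕ) : ZMod p) - 1).val).Coprime (orderOf v) := by
            refine Nat.Coprime.coprime_dvd_right (orderOf_dvd_of_pow_eq_one (hpow v hvP)) ?_
            refine (hp.out.coprime_iff_not_dvd.2 fun hd => ?_).symm
            have hv0 := Nat.eq_zero_of_dvd_of_lt hd (ZMod.val_lt _)
            rw [ZMod.val_eq_zero, sub_eq_zero] at hv0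
            exact hne (by rw [hv0, Nat.cast_one])
          obtain ⟨t, ht⟩ := exists_pow_eq_self_of_coprime hcop
          rw [← ht]
          exact pow_mem h1 t
        simpa using hne
      have hj0 : (j : ZMod p) ≠ 0 := by
        intro h0
        rw [h0, zero_pow (orderOf_pos h).ne'] at hmod
        exact zero_ne_one hmod
      have hgcd : (orderOf h).Coprime (p - 1) := by
        rw [Nat.coprime_comm]
        refine Nat.coprime_of_dvd' fun r hr h1 h2 => ?_
        have := hmin r hr (h2.trans (orderOf_dvd_natCard h))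
        have hp1 : 0 < p - 1 := by have := hp.out.two_le; omega
        have := Nat.le_of_dvd hp1 h1
        omega
      have h1 : orderOf (j : ZMod p) = 1 := Nat.eq_one_of_dvd_coprimes hgcd
        (orderOf_dvd_of_pow_eq_one hmod) (ZMod.orderOf_dvd_card_sub_one hj0)
      rw [orderOf_eq_one_iff, ← Nat.cast_one, ZMod.natCast_eq_natCast_iff'] at h1
      rwa [Nat.mod_eq_of_lt hjp, Nat.mod_eq_of_lt hp.out.one_lt] at h1
    subst hj1
    -- `[P,h] ≤ M`, so `h` fixes a nontrivial element
    let ψ : ↥(P : Subgroup G) → M := fun a => ⟨(a : G)⁻¹ * (h * a * h⁻¹), by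
      obtain ⟨k, m, -, hm, ha⟩ := hsplit a a.2
      have he : (a : G)⁻¹ * (h * a * h⁻¹) = m⁻¹ * (m₀ ^ k * (h * m * h⁻¹)) := by
        rw [ha]
        calc (v ^ k * m)⁻¹ * (h * (v ^ k * m) * h⁻¹)
            = m⁻¹ * ((v ^ k)⁻¹ * ((h * v * h⁻¹) ^ k * (h * m * h⁻¹))) := by rw [conj_pow]; group
          _ = m⁻¹ * (m₀ ^ k * (h * m * h⁻¹)) := by
            rw [hj, pow_one, (hcomm v hvP m₀ (hM.1 hm₀)).mul_pow]; group
      rw [he]
      exact mul_mem (inv_mem hm) (mul_mem (pow_mem hm₀ _) (hhM m hm))⟩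
    have hψ : Function.Injective ψ := by
      intro a b he
      have he' : (a : G)⁻¹ * (h * a * h⁻¹) = (b : G)⁻¹ * (h * b * h⁻¹) := congrArg Subtype.val he
      by_contra hne
      apply hbC
      refine hfix h hbN ((a : G) * (b : G)⁻¹) (mul_mem a.2 (inv_mem b.2))
        (fun e => hne (Subtype.ext (mul_inv_eq_one.1 e))) ?_
      rw [← mul_inv_eq_iff_eq_mul]
      have hc1 : (a : G) * (b : G)⁻¹ = (b : G)⁻¹ * a := hcomm a a.2 _ (inv_mem b.2)
      have hc2 := (hcomm _ (hhP _ a.2) _ (inv_mem (hhP _ b.2))).eq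
      calc h * ((a : G) * (b : G)⁻¹) * h⁻¹ = (h * a * h⁻¹) * (h * b * h⁻¹)⁻¹ := by group
        _ = (a : G) * ((a : G)⁻¹ * (h * a * h⁻¹)) * (h * b * h⁻¹)⁻¹ := by group
        _ = (a : G) * ((b : G)⁻¹ * (h * b * h⁻¹)) * (h * b * h⁻¹)⁻¹ := by rw [he']
        _ = (a : G) * (b : G)⁻¹ := by group
    have h2 := Nat.card_le_card_of_injective ψ hψ
    rw [hM.2] at h2
    have := Nat.card_pos (α := M)
    nlinarith [hp.out.two_le]
  -- hyperplanes exist and are not trivial
  have hpP : p ∣ Nat.card (P : Subgroup G) := by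
    refine P.dvd_card_of_dvd_card ?_
    by_contra hd
    have hbot : (P : Subgroup G) = ⊥ := by
      rw [← card_eq_one, P.card_eq_multiplicity, Nat.factorization_eq_zero_of_not_dvd hd, pow_zero]
    exact hg₀C (mem_centralizer_iff.2 fun a ha => by
      rw [hbot] at ha
      rw [mem_bot.1 ha, one_mul, mul_one])
  have hMne : ∀ M, IsHyp M → M ≠ ⊥ := by
    rintro M hM rfl
    exact hg₀C (hhyp g₀ hg₀N ⊥ hM fun m hm => by rw [mem_bot] at hm ⊢; rw [hm]; group)
  have hexhyp : ∃ M, IsHyp M := by
    obtain ⟨k, hk⟩ := IsPGroup.iff_card.1 P.isPGroup'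
    have hk0 : k ≠ 0 := fun h0 => by
      rw [hk, h0, pow_zero, Nat.dvd_one] at hpP
      exact hp.out.ne_one hpP
    obtain ⟨M, hM⟩ := Sylow.exists_subgroup_card_pow_prime (G := (P : Subgroup G)) p (n := k - 1)
      (by rw [hk]; exact pow_dvd_pow p (by omega))
    refine ⟨M.map (P : Subgroup G).subtype, map_subtype_le _, ?_⟩
    rw [card_map_of_injective (P : Subgroup G).subtype_injective, hM, hk, ← pow_succ']
    congr 1
    omega
  -- the two families of sets
  let S : G → Set G := fun u => {x | ∃ g : G, ∃ y : G,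
    y ∈ Subgroup.centralizer ({u} : Set G) ∧ ¬ p ∣ orderOf y ∧ x = g * (u * y) * g⁻¹}
  let T : Subgroup G → Set G := fun M => {x | ∃ g : G, ∃ y : G,
    y ∈ Subgroup.centralizer (M : Set G) ∧ ¬ p ∣ orderOf y ∧ x = g * (1 * y) * g⁻¹}
  let I : Finset G := Finset.univ.filter fun u => u ∈ (P : Subgroup G) ∧ u ≠ 1
  haveI : Fintype (Subgroup G) := Fintype.ofFinite _
  let J : Finset (Subgroup G) := Finset.univ.filter IsHyp
  have hS : ∀ u ∈ I, (S u).ncard * Nat.card (P : Subgroup G) ≤ Nat.card G := by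
    intro u hu
    obtain ⟨hu1, hu2⟩ := (Finset.mem_filter.1 hu).2
    exact ncard_conj_le P _ (fun a ha => mem_centralizer_singleton_iff.2 (helem P a ha u hu1).2)
      (hsub u hu2 (helem P u hu1 u hu1).1) u fun c hc => mem_centralizer_singleton_iff.1 hc
  have hT : ∀ M ∈ J, (T M).ncard * Nat.card (P : Subgroup G) ≤ Nat.card G := by
    intro M hM
    have hM' := (Finset.mem_filter.1 hM).2
    obtain ⟨⟨u, hu⟩, hu1⟩ := @exists_ne M ((nontrivial_iff_ne_bot M).2 (hMne M hM')) 1
    have hne : u ≠ 1 := fun e => hu1 (Subtype.ext e)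
    have hle : Subgroup.centralizer (M : Set G) ≤ Subgroup.centralizer ({u} : Set G) :=
      centralizer_le (by simpa using hu)
    refine ncard_conj_le P _ (fun a ha => mem_centralizer_iff.2 fun m hm =>
        (helem P m (hM'.1 hm) a ha).2) ?_ 1 (fun c _ => by simp)
    have := hsub u hne (helem P u (hM'.1 hu) u (hM'.1 hu)).1
    exact CfsgLib.Transfer.hasNormalPComplement_of_injective (Subgroup.inclusion hle)
      (Subgroup.inclusion_injective hle) this
  -- every element lies in two of the sets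
  have htwo : ∀ x : G, 2 ≤ (I.filter fun u => x ∈ S u).card + (J.filter fun M => x ∈ T M).card := by
    intro x
    obtain ⟨h, -, hho, hhN, hhC⟩ := hNC g₀ hg₀N hg₀C
    by_cases hx : p ∣ orderOf x
    · obtain ⟨a, b, -, -, hab, hcomm, ⟨k, hk⟩, hbo⟩ := exists_parts (p := p) x
      have ha1 : a ≠ 1 := fun e => hbo (by rw [e, one_mul] at hab; rwa [hab])
      obtain ⟨R, hR⟩ := (show IsPGroup p (zpowers a) from by
        obtain ⟨l, -, hl⟩ := (Nat.dvd_prime_pow hp.out).1 (orderOf_dvd_of_pow_eq_one hk)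
        exact IsPGroup.of_card (n := l) (by rw [Nat.card_zpowers, hl])).exists_le_sylow
      obtain ⟨g, hg⟩ := MulAction.exists_smul_eq G R P
      have huP : g * a * g⁻¹ ∈ (P : Subgroup G) := by
        rw [← hg]; exact ⟨a, hR (mem_zpowers a), rfl⟩
      set u := g * a * g⁻¹ with hu
      have hu1 : u ≠ 1 := fun e => ha1 (by rwa [hu, conj_eq_one_iff] at e)
      have hmem : ∀ k : G, k * u * k⁻¹ ∈ (P : Subgroup G) → x ∈ S (k * u * k⁻¹) := fun k _ =>
        ⟨g⁻¹ * k⁻¹, k * (g * b * g⁻¹) * k⁻¹, mem_centralizer_singleton_iff.2 (by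
          rw [hu]
          calc k * (g * b * g⁻¹) * k⁻¹ * (k * (g * a * g⁻¹) * k⁻¹)
              = k * g * (b * a) * g⁻¹ * k⁻¹ := by group
            _ = k * g * (a * b) * g⁻¹ * k⁻¹ := by rw [hcomm.eq]
            _ = _ := by group),
          by
            rw [show k * (g * b * g⁻¹) * k⁻¹ = MulAut.conj (k * g) b by simp [mul_assoc],
              MulEquiv.orderOf_eq]
            exact hbo,
          by rw [hu, ← hab]; group⟩
      have h1 : u ∈ I.filter fun u => x ∈ S u := by
        simp only [I, Finset.mem_filter, Finset.mem_univ, true_and]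
        refine ⟨⟨huP, hu1⟩, ?_⟩
        have := hmem 1 (by simpa using huP)
        simpa using this
      have h2 : h * u * h⁻¹ ∈ I.filter fun u => x ∈ S u := by
        simp only [I, Finset.mem_filter, Finset.mem_univ, true_and]
        have hmemP := (mem_normalizer_iff.1 hhN u).1 huP
        exact ⟨⟨hmemP, fun e => hu1 (conj_eq_one_iff.1 e)⟩, hmem h hmemP⟩
      have hne : u ≠ h * u * h⁻¹ := fun e =>
        hhC (hfix h hhN u huP hu1 (mul_inv_eq_iff_eq_mul.1 e.symm))
      have h3 : ({u, h * u * h⁻¹} : Finset G) ⊆ I.filter fun u => x ∈ S u :=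
        Finset.insert_subset h1 (Finset.singleton_subset_iff.2 h2)
      have := Finset.card_le_card h3
      rw [Finset.card_pair hne] at this
      omega
    · obtain ⟨g, M₁, hM₁P, hM₁c, hM₁x⟩ := exists_conj_centralize P x (hreg x hx)
      obtain ⟨M, hM, hMx⟩ : ∃ M, IsHyp M ∧ ∀ m ∈ M, g * x * g⁻¹ * m = m * (g * x * g⁻¹) := by
        by_cases htop : M₁ = (P : Subgroup G)
        · obtain ⟨M, hM⟩ := hexhyp
          exact ⟨M, hM, fun m hm => hM₁x m (htop ▸ hM.1 hm)⟩
        · refine ⟨M₁, ⟨hM₁P, ?_⟩, hM₁x⟩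
          obtain ⟨k, hk⟩ := IsPGroup.iff_card.1 P.isPGroup'
          obtain ⟨l, hl⟩ := IsPGroup.iff_card.1 (P.isPGroup'.to_le hM₁P)
          rw [hk, hl, ← pow_succ'] at hM₁c
          have h1 := (Nat.pow_dvd_pow_iff_le_right hp.out.one_lt).1 hM₁c
          have h2 : l < k := by
            by_contra h3
            exact htop (Subgroup.eq_of_le_of_card_ge hM₁P (by
              rw [hk, hl]; exact Nat.pow_le_pow_right hp.out.pos (by omega)))
          rw [hk, hl, ← pow_succ']
          congr 1
          omega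
      have hmem : ∀ k ∈ N, ∀ M' : Subgroup G, M' = M.map (MulAut.conj k).toMonoidHom →
          M' ∈ J.filter fun M => x ∈ T M := by
        rintro k hk M' rfl
        simp only [J, Finset.mem_filter, Finset.mem_univ, true_and]
        refine ⟨⟨?_, ?_⟩, g⁻¹ * k⁻¹, k * (g * x * g⁻¹) * k⁻¹, ?_, ?_, by group⟩
        · rintro _ ⟨m, hm, rfl⟩
          exact (mem_normalizer_iff.1 hk m).1 (hM.1 hm)
        · rw [card_map_of_injective (MulAut.conj k).injective]; exact hM.2
        · rw [mem_centralizer_iff]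
          rintro _ ⟨m, hm, rfl⟩
          show k * m * k⁻¹ * (k * (g * x * g⁻¹) * k⁻¹) = k * (g * x * g⁻¹) * k⁻¹ * (k * m * k⁻¹)
          calc k * m * k⁻¹ * (k * (g * x * g⁻¹) * k⁻¹) = k * (m * (g * x * g⁻¹)) * k⁻¹ := by group
            _ = k * (g * x * g⁻¹ * m) * k⁻¹ := by rw [hMx m hm]
            _ = _ := by group
        · rw [show k * (g * x * g⁻¹) * k⁻¹ = MulAut.conj (k * g) x by simp [mul_assoc],
            MulEquiv.orderOf_eq]
          exact hx
      have h1 := hmem 1 (one_mem _) M (by ext m; simp [Subgroup.mem_map])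
      have h2 := hmem h hhN _ rfl
      have hne : M ≠ M.map (MulAut.conj h).toMonoidHom := fun e =>
        hhC (hhyp h hhN M hM fun m hm => by rw [e]; exact ⟨m, hm, rfl⟩)
      have h3 : ({M, M.map (MulAut.conj h).toMonoidHom} : Finset (Subgroup G)) ⊆
          J.filter fun M => x ∈ T M :=
        Finset.insert_subset h1 (Finset.singleton_subset_iff.2 h2)
      have := Finset.card_le_card h3
      rw [Finset.card_pair hne] at this
      omega
  -- counting
  have hsum : 2 * Nat.card G ≤ ∑ u ∈ I, (S u).ncard + ∑ M ∈ J, (T M).ncard := by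
    have h1 : ∀ u : G, (S u).ncard = (Finset.univ.filter fun x => x ∈ S u).card := fun u => by
      rw [← Set.ncard_coe_finset]; congr 1; ext; simp
    have h2 : ∀ M : Subgroup G, (T M).ncard = (Finset.univ.filter fun x => x ∈ T M).card :=
      fun M => by rw [← Set.ncard_coe_finset]; congr 1; ext; simp
    rw [Finset.sum_congr rfl (fun u _ => h1 u), Finset.sum_congr rfl (fun M _ => h2 M)]
    simp only [Finset.card_filter]
    rw [Finset.sum_comm, Finset.sum_comm (s := J), ← Finset.sum_add_distrib]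
    calc 2 * Nat.card G = ∑ _x : G, 2 := by
          rw [Finset.sum_const, Finset.card_univ, smul_eq_mul, Nat.card_eq_fintype_card, mul_comm]
      _ ≤ _ := Finset.sum_le_sum fun x _ => by
          have := htwo x
          simpa [Finset.card_filter] using this
  have hI : I.card + 1 = Nat.card (P : Subgroup G) := by
    have : I = ((P : Subgroup G) : Set G).toFinset.erase 1 := by
      ext u
      simp [I, and_comm]
      exact fun _ => Iff.rfl
    rw [this, Finset.card_erase_add_one (by simp), ← Set.ncard_eq_toFinset_card',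
      ← Nat.card_coe_set_eq]
    rfl
  have hJ : J.card + 1 ≤ Nat.card (P : Subgroup G) := by
    letI : CommGroup (P : Subgroup G) :=
      { (inferInstance : Group (P : Subgroup G)) with
        mul_comm := fun a b => Subtype.ext (helem P a a.2 b b.2).2 }
    have hchar : ∀ M ∈ J, ∃ χ : (P : Subgroup G) →* ℂˣ, χ ≠ 1 ∧ χ.ker.map (P : Subgroup G).subtype = M := by
      intro M hM
      have hM' := (Finset.mem_filter.1 hM).2
      set M' := M.subgroupOf (P : Subgroup G)
      have hc : Nat.card M' = Nat.card M := Nat.card_congr (subgroupOfEquivOfLe hM'.1).toEquiv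
      have hq : Nat.card ((P : Subgroup G) ⧸ M') = p := by
        have h1 := M'.card_mul_index
        rw [hc, hM'.2, mul_comm p] at h1
        rw [← index_eq_card]
        exact Nat.eq_of_mul_eq_mul_left Nat.card_pos h1
      haveI : Nontrivial ((P : Subgroup G) ⧸ M') :=
        Finite.one_lt_card_iff_nontrivial.1 (by rw [hq]; exact hp.out.one_lt)
      obtain ⟨a, ha⟩ := exists_ne (1 : (P : Subgroup G) ⧸ M')
      obtain ⟨χ, hχ⟩ := CommGroup.exists_apply_ne_one_of_hasEnoughRootsOfUnity
        ((P : Subgroup G) ⧸ M') ℂ ha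
      refine ⟨χ.comp (QuotientGroup.mk' M'), fun e => hχ ?_, ?_⟩
      · obtain ⟨a', rfl⟩ := QuotientGroup.mk'_surjective M' a
        exact DFunLike.congr_fun e a'
      · have hker : χ.ker = ⊥ := by
          haveI := Fact.mk (show (Nat.card ((P : Subgroup G) ⧸ M')).Prime by rw [hq]; exact hp.out)
          refine (Subgroup.eq_bot_or_eq_top_of_prime_card χ.ker).resolve_right fun ht => hχ ?_
          have : a ∈ χ.ker := ht ▸ mem_top a
          exact this
        rw [← MonoidHom.comap_ker, hker, MonoidHom.comap_bot, QuotientGroup.ker_mk',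
          subgroupOf_map_subtype, inf_eq_left.2 hM'.1]
    choose χ hχ1 hχ using hchar
    haveI : Finite ((P : Subgroup G) →* ℂˣ) := Nat.finite_of_card_ne_zero (by
      rw [CommGroup.card_monoidHom_of_hasEnoughRootsOfUnity]; exact Nat.card_pos.ne')
    haveI := Fintype.ofFinite ((P : Subgroup G) →* ℂˣ)
    have h1 : J.attach.card ≤ ((Finset.univ : Finset ((P : Subgroup G) →* ℂˣ)).erase 1).card := by
      refine Finset.card_le_card_of_injOn (fun M => χ M.1 M.2)
        (fun M _ => Finset.mem_erase.2 ⟨hχ1 _ M.2, Finset.mem_univ _⟩) ?_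
      intro M _ M' _ he
      apply Subtype.ext
      rw [← hχ _ M.2, ← hχ _ M'.2]
      dsimp only at he
      rw [he]
    rw [Finset.card_attach, Finset.card_erase_of_mem (Finset.mem_univ _), Finset.card_univ,
      ← Nat.card_eq_fintype_card, CommGroup.card_monoidHom_of_hasEnoughRootsOfUnity] at h1
    have := Nat.card_pos (α := (P : Subgroup G))
    omega
  have h1 : (∑ u ∈ I, (S u).ncard + ∑ M ∈ J, (T M).ncard) * Nat.card (P : Subgroup G) ≤
      (I.card + J.card) * Nat.card G := by
    rw [add_mul, Finset.sum_mul, Finset.sum_mul, add_mul, ← smul_eq_mul, ← smul_eq_mul (a := J.card),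
      ← Finset.sum_const, ← Finset.sum_const]
    exact Nat.add_le_add (Finset.sum_le_sum hS) (Finset.sum_le_sum hT)
  have h2 := (Nat.mul_le_mul_right (Nat.card (P : Subgroup G)) hsum).trans h1
  rw [mul_assoc, mul_comm (Nat.card G), ← mul_assoc] at h2
  have h3 := Nat.le_of_mul_le_mul_right h2 Nat.card_pos
  omega

/-- Normal `p`-complement from an elementary abelian Sylow subgroup and small `p`-parts. -/
theorem npc_of_elemHyp : ∀ (n : ℕ) {G : Type u} [Group G] [Finite G], Nat.card G = n → ElemHyp p G →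
    Cfsg.HasNormalPComplement p G := by
  intro n
  induction n using Nat.strong_induction_on with
  | _ n ih => ?_
  intro G _ _ hn h
  subst hn
  by_contra hno
  by_cases hcen : ∃ u : G, u ≠ 1 ∧ u ^ p = 1 ∧ u ∈ center G
  · obtain ⟨u, hu1, hup, huc⟩ := hcen
    have hle : zpowers u ≤ center G := zpowers_le.2 huc
    haveI : (zpowers u).Normal := ⟨fun x hx g => by
      rw [mem_center_iff.1 (hle hx) g, mul_inv_cancel_right]; exact hx⟩
    refine hno (npc_of_central_quotient _ hle
      (IsPGroup.of_card (n := 1) (by rw [Nat.card_zpowers, pow_one, orderOf_eq_prime hup hu1]))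
      (ih _ ?_ rfl (h.quotient _)))
    rw [Subgroup.card_eq_card_quotient_mul_card_subgroup (zpowers u)]
    exact lt_mul_of_one_lt_right Nat.card_pos
      (by rw [Nat.card_zpowers, orderOf_eq_prime hup hu1]; exact hp.out.one_lt)
  · refine not_sq_aux h hno fun u hu hup => ?_
    refine ih _ ?_ rfl (h.centralizer u ⟨1, by rw [pow_one]; exact hup⟩ _ rfl)
    refine lt_of_le_of_ne (card_le_card_group _) fun he => hcen ⟨u, hu, hup, ?_⟩
    have htop := eq_top_of_card_eq _ he
    rw [centralizer_eq_top_iff_subset, Set.singleton_subset_iff] at htop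
    exact htop

end CfsgLib.SquarefreeClass
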