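import Cfsg.Agent.Lib.ClassSize.SquarefreeNPC
import Cfsg.Agent.Lib.Coprime.Basic
import Cfsg.Agent.Lib.Solvable.Supersolvable

/-!
Groups with square-free class sizes: a normal Sylow subgroup for the largest prime, and cyclic
derived subgroup of square-free order.
-/

set_option autoImplicit false
set_option linter.style.haveILetI false
set_option linter.unusedSectionVars false

namespace CfsgLib.SquarefreeClass

open Subgroup
open scoped commutatorElement

universe u

variable {G : Type u} [Group G] [Finite G]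

/-- All class sizes are square-free. -/
def SF (G : Type u) [Group G] : Prop :=
  ∀ x : G, Squarefree (centralizer ({x} : Set G)).index

theorem SF.not_sq {G : Type u} [Group G] (h : SF G) {p : ℕ} (hp : p.Prime) (x : G) :
    ¬ p ^ 2 ∣ (centralizer ({x} : Set G)).index := fun hd =>
  hp.ne_one (Nat.isUnit_iff.1 (h x p (by rwa [← sq])))

theorem SF.quotient (h : SF G) (Z : Subgroup G) [Z.Normal] : SF (G ⧸ Z) := by
  intro x
  induction x using QuotientGroup.induction_on with | _ x => ?_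
  refine (h x).squarefree_of_dvd (Dvd.dvd.trans (index_dvd_of_le ?_)
    (index_map_dvd (H := centralizer ({x} : Set G)) (QuotientGroup.mk'_surjective Z)))
  rintro _ ⟨c, hc, rfl⟩
  rw [mem_centralizer_singleton_iff, ← QuotientGroup.mk'_apply, ← map_mul, ← map_mul,
    mem_centralizer_singleton_iff.1 hc]

theorem index_centralizer_dvd_of_normal (N : Subgroup G) [N.Normal] (x : G) :
    ((centralizer ({x} : Set G)).subgroupOf N).index ∣ (centralizer ({x} : Set G)).index := by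
  set C := centralizer ({x} : Set G)
  have h1 := CfsgLib.Coprime.card_sup_mul_card_inf (H := C) (N := N)
    (by rw [normalizer_eq_top]; exact le_top)
  have h2 := (C.subgroupOf N).card_mul_index
  have h3 : Nat.card (C.subgroupOf N) = Nat.card (N ⊓ C : Subgroup G) := by
    rw [← inf_subgroupOf_left]
    exact Nat.card_congr (subgroupOfEquivOfLe inf_le_left).toEquiv
  rw [h3] at h2
  have h4 : Nat.card (C ⊔ N : Subgroup G) = Nat.card C * (C.subgroupOf N).index := by
    have h5 : Nat.card (C ⊔ N : Subgroup G) * Nat.card (N ⊓ C : Subgroup G) =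
        Nat.card C * (C.subgroupOf N).index * Nat.card (N ⊓ C : Subgroup G) := by
      rw [h1, ← h2]; ring
    exact Nat.eq_of_mul_eq_mul_right Nat.card_pos h5
  have h6 := C.card_mul_index
  refine (Nat.mul_dvd_mul_iff_left (Nat.card_pos (α := C))).1 ?_
  rw [← h4, h6]
  exact card_subgroup_dvd_card _

theorem SF.normal (h : SF G) (N : Subgroup G) [N.Normal] : SF N := by
  intro x
  refine (h x).squarefree_of_dvd (Dvd.dvd.trans (index_dvd_of_le ?_)
    (index_centralizer_dvd_of_normal N x))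
  intro c hc
  exact mem_centralizer_singleton_iff.2
    (Subtype.ext (mem_centralizer_singleton_iff.1 (mem_subgroupOf.1 hc)))

/-- The smallest prime has a normal complement. -/
theorem SF.npc_smallest (h : SF G) {p : ℕ} [hp : Fact p.Prime]
    (hmin : ∀ r : ℕ, r.Prime → r ∣ Nat.card G → p ≤ r) : Cfsg.HasNormalPComplement p G := by
  obtain ⟨P⟩ := (inferInstance : Nonempty (Sylow p G))
  have hcen := pow_commutator_central P (h.not_sq hp.out)
  set Z := closure ({z : G | ∃ a ∈ (P : Subgroup G), ∃ b ∈ (P : Subgroup G),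
    z = a ^ p ∨ z = ⁅a, b⁆}) with hZ
  have hZc : Z ≤ center G := by
    rw [hZ, closure_le]
    rintro z ⟨a, ha, b, hb, rfl | rfl⟩
    exacts [(hcen a ha b hb).1, (hcen a ha b hb).2]
  have hZP : Z ≤ (P : Subgroup G) := by
    rw [hZ, closure_le]
    rintro z ⟨a, ha, b, hb, rfl | rfl⟩
    · exact pow_mem ha p
    · rw [commutatorElement_def]
      exact mul_mem (mul_mem (mul_mem ha hb) (inv_mem ha)) (inv_mem hb)
  haveI : Z.Normal := ⟨fun x hx g => by
    rw [mem_center_iff.1 (hZc hx) g, mul_inv_cancel_right]; exact hx⟩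
  refine npc_of_central_quotient Z hZc (P.isPGroup'.to_le hZP)
    (npc_of_elemHyp _ rfl ⟨fun r hr hd => hmin r hr (hd.trans (card_quotient_dvd_card Z)), ?_,
      fun x _ => (h.quotient Z).not_sq hp.out x⟩)
  intro R a ha b hb
  obtain ⟨g, hg⟩ := MulAction.exists_smul_eq (G ⧸ Z)
    (P.mapSurjective (QuotientGroup.mk'_surjective Z)) R
  rw [← hg] at ha hb
  obtain ⟨_, ⟨a₀, ha₀, rfl⟩, rfl⟩ := ha
  obtain ⟨_, ⟨b₀, hb₀, rfl⟩, rfl⟩ := hb
  have h1 : QuotientGroup.mk' Z (a₀ ^ p) = 1 :=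
    (QuotientGroup.eq_one_iff _).2 (subset_closure ⟨a₀, ha₀, b₀, hb₀, Or.inl rfl⟩)
  have h2 : QuotientGroup.mk' Z ⁅a₀, b₀⁆ = 1 :=
    (QuotientGroup.eq_one_iff _).2 (subset_closure ⟨a₀, ha₀, b₀, hb₀, Or.inr rfl⟩)
  rw [map_commutatorElement, commutatorElement_eq_one_iff_mul_comm] at h2
  constructor
  · change MulAut.conj g (QuotientGroup.mk' Z a₀) ^ p = 1
    rw [← map_pow, ← map_pow, h1, map_one]
  · change MulAut.conj g (QuotientGroup.mk' Z a₀) * MulAut.conj g (QuotientGroup.mk' Z b₀) =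
      MulAut.conj g (QuotientGroup.mk' Z b₀) * MulAut.conj g (QuotientGroup.mk' Z a₀)
    rw [← map_mul, h2, map_mul]

/-- The largest prime has a normal Sylow subgroup. -/
theorem SF.sylow_normal_largest : ∀ (n : ℕ) {G : Type u} [Group G] [Finite G], Nat.card G = n →
    SF G → ∀ {p : ℕ} [Fact p.Prime], (∀ r : ℕ, r.Prime → r ∣ Nat.card G → r ≤ p) →
      ∀ P : Sylow p G, (P : Subgroup G).Normal := by
  intro n
  induction n using Nat.strong_induction_on with
  | _ n ih => ?_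
  intro G _ _ hn h p hpF hmax P
  subst hn
  by_cases h1 : Nat.card G = 1
  · haveI : Subsingleton G := (Nat.card_eq_one_iff_unique.1 h1).1
    exact ⟨fun x hx g => by rwa [Subsingleton.elim (g * x * g⁻¹) x]⟩
  set q := (Nat.card G).minFac with hq
  have hqp : q.Prime := Nat.minFac_prime h1
  haveI := Fact.mk hqp
  by_cases hqeq : q = p
  · have htop : (P : Subgroup G) = ⊤ := by
      have hG : IsPGroup p G := IsPGroup.of_card (n := (Nat.card G).primeFactorsList.length)
        (Nat.eq_prime_pow_of_unique_prime_dvd Nat.card_pos.ne' fun {r} hr hrd =>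
          le_antisymm (hmax r hr hrd) (hqeq ▸ Nat.minFac_le_of_dvd hr.two_le hrd))
      exact (P.is_maximal' (hG.to_subgroup ⊤) le_top).symm
    rw [htop]; infer_instance
  obtain ⟨Q, K, hK, hKc⟩ := h.npc_smallest (p := q)
    (fun r hr hrd => Nat.minFac_le_of_dvd hr.two_le hrd)
  haveI := hK
  have hlt : Nat.card K < Nat.card G := by
    rw [← hKc.card_mul_card]
    refine lt_mul_of_one_lt_right Nat.card_pos ?_
    exact lt_of_lt_of_le hqp.one_lt
      (Nat.le_of_dvd Nat.card_pos (Q.dvd_card_of_dvd_card (Nat.minFac_dvd _)))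
  have hPK : (P : Subgroup G) ≤ K := by
    intro x hx
    rw [← QuotientGroup.eq_one_iff, ← orderOf_eq_one_iff]
    obtain ⟨i, hi⟩ := IsPGroup.iff_orderOf.1 P.isPGroup' ⟨x, hx⟩
    rw [Subgroup.orderOf_mk] at hi
    obtain ⟨k, hk⟩ := IsPGroup.iff_card.1 Q.isPGroup'
    refine Nat.eq_one_of_dvd_coprimes
      (Nat.Coprime.pow i k ((Nat.coprime_primes Fact.out hqp).2 (Ne.symm hqeq))) ?_ ?_
    · exact hi ▸ orderOf_map_dvd (QuotientGroup.mk' K) x
    · rw [← hk, ← hKc.symm.index_eq_card, index_eq_card]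
      exact orderOf_dvd_natCard _
  haveI hPn : (P.subtype hPK : Subgroup K).Normal :=
    ih _ hlt rfl (h.normal K) (fun r hr hrd => hmax r hr (hrd.trans (card_subgroup_dvd_card K))) _
  haveI := (P.subtype hPK).characteristic_of_normal hPn
  have h2 : ((P.subtype hPK : Subgroup K).map K.subtype).Normal := inferInstance
  rwa [Sylow.coe_subtype, map_subgroupOf_eq_of_le hPK] at h2

theorem exists_pow_eq_one_coprime {p : ℕ} (hp : p.Prime) {z : G} {n k : ℕ} (hn : ¬ p ∣ n)
    (h1 : z ^ n = 1) (h2 : z ^ p ^ k = 1) : z = 1 :=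
  orderOf_eq_one_iff.1 (Nat.eq_one_of_dvd_coprimes ((hp.coprime_iff_not_dvd.2 hn).symm.pow_right k)
    (orderOf_dvd_of_pow_eq_one h1) (orderOf_dvd_of_pow_eq_one h2))

/-- If `g⁻¹`-conjugation moves `v` by a fixed central factor of `p`-power order and `g` has order
prime to `p`, it fixes `v`. -/
theorem commute_of_translation {p : ℕ} (hp : p.Prime) {g v k : G} (hg : ¬ p ∣ orderOf g)
    (hk : ∃ e, k ^ p ^ e = 1) (hgk : g * k = k * g) (h : g * v * g⁻¹ = k * v) :
    g * v = v * g := by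
  obtain ⟨e, he⟩ := hk
  have hiter : ∀ i : ℕ, g ^ i * v * (g ^ i)⁻¹ = k ^ i * v := by
    intro i
    induction i with
    | zero => simp
    | succ i ih =>
      calc g ^ (i + 1) * v * (g ^ (i + 1))⁻¹ = g * (g ^ i * v * (g ^ i)⁻¹) * g⁻¹ := by
            rw [pow_succ']; group
        _ = g * (k ^ i * v) * g⁻¹ := by rw [ih]
        _ = k ^ i * (g * v * g⁻¹) := by
            rw [← mul_assoc g, ((show Commute g k from hgk).pow_right i).eq]; group
        _ = k ^ (i + 1) * v := by rw [h, pow_succ]; group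
  have h2 := hiter (orderOf g)
  rw [pow_orderOf_eq_one, one_mul, inv_one, mul_one, right_eq_mul] at h2
  have hk1 : k = 1 := exists_pow_eq_one_coprime hp hg h2 he
  rw [hk1, one_mul] at h
  exact mul_inv_eq_iff_eq_mul.1 h

/-- For a normal Sylow subgroup `P` and square-free class sizes, `|P ∩ G'|` divides `p`. -/
theorem SF.card_inf_commutator (h : SF G) {p : ℕ} [hpF : Fact p.Prime] (P : Sylow p G)
    [hPn : (P : Subgroup G).Normal] :
    Nat.card ((P : Subgroup G) ⊓ commutator G : Subgroup G) ∣ p := by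
  classical
  have hp : p.Prime := hpF.out
  have hcen := pow_commutator_central P (h.not_sq hp)
  have hmemP : ∀ u ∈ (P : Subgroup G), ∀ g : G, ⁅u, g⁆ ∈ (P : Subgroup G) := by
    intro u hu g
    rw [commutatorElement_def]
    have := mul_mem hu (hPn.conj_mem _ (inv_mem hu) g)
    simpa [mul_assoc] using this
  have hpk : ∀ u ∈ (P : Subgroup G), ∃ e, u ^ p ^ e = 1 := fun u hu => by
    obtain ⟨e, he⟩ := P.isPGroup' ⟨u, hu⟩
    exact ⟨e, congrArg Subtype.val he⟩
  -- `C_P(g)` has index dividing `p`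
  have hidx : ∀ g : G, Nat.card (P : Subgroup G) ∣
      p * Nat.card ((P : Subgroup G) ⊓ centralizer ({g} : Set G) : Subgroup G) := by
    intro g
    have h1 := ((centralizer ({g} : Set G)).subgroupOf (P : Subgroup G)).card_mul_index
    have h2 : Nat.card ((centralizer ({g} : Set G)).subgroupOf (P : Subgroup G)) =
        Nat.card ((P : Subgroup G) ⊓ centralizer ({g} : Set G) : Subgroup G) := by
      rw [← inf_subgroupOf_left]
      exact Nat.card_congr (subgroupOfEquivOfLe inf_le_left).toEquiv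
    have h3 := (h g).squarefree_of_dvd (index_centralizer_dvd_of_normal (P : Subgroup G) g)
    obtain ⟨k, hk⟩ := IsPGroup.iff_card.1 P.isPGroup'
    obtain ⟨j, -, hj⟩ := (Nat.dvd_prime_pow hp).1
      (hk ▸ ((centralizer ({g} : Set G)).subgroupOf (P : Subgroup G)).index_dvd_card)
    rw [← h1, h2, hj, mul_comm p]
    refine mul_dvd_mul_left _ ?_
    rw [hj] at h3
    by_cases hj0 : j = 0
    · rw [hj0, pow_zero]; exact one_dvd p
    · rw [((Nat.squarefree_pow_iff hp.ne_one hj0).1 h3).2, pow_one]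
  -- commutators with elements of `P` are central in `P`
  have hZP : ∀ g : G, ∀ u ∈ (P : Subgroup G), ∀ w ∈ (P : Subgroup G),
      ⁅u, g⁆ * w = w * ⁅u, g⁆ := by
    intro g
    obtain ⟨a, b, -, -, hab, -, ⟨ka, hka⟩, hbo⟩ := exists_parts (p := p) g
    have haP : a ∈ (P : Subgroup G) := CfsgLib.Transfer.isPGroup_mem_of_mem_normalizer P
      (by rw [normalizer_eq_top]; exact mem_top a) ka hka
    suffices hb : ∀ u ∈ (P : Subgroup G), ∀ w ∈ (P : Subgroup G), ⁅u, b⁆ * w = w * ⁅u, b⁆ by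
      intro u hu w hw
      have hz : ∀ y : G, y * ⁅u, a⁆ = ⁅u, a⁆ * y := mem_center_iff.1 (hcen u hu a haP).2
      have he : ⁅u, g⁆ = ⁅u, a⁆ * (a * ⁅u, b⁆ * a⁻¹) := by
        rw [← hab]; simp only [commutatorElement_def]; group
      have hc1 : a * ⁅u, b⁆ * a⁻¹ = ⁅u, b⁆ := by
        rw [← hb u hu a haP, mul_inv_cancel_right]
      rw [he, hc1]
      calc ⁅u, a⁆ * ⁅u, b⁆ * w = ⁅u, a⁆ * (w * ⁅u, b⁆) := by rw [mul_assoc, hb u hu w hw]
        _ = w * (⁅u, a⁆ * ⁅u, b⁆) := by rw [← mul_assoc, ← hz w, mul_assoc]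
    -- now for an element of order prime to `p`
    set C := (P : Subgroup G) ⊓ centralizer ({b} : Set G) with hC
    have hCb : ∀ c ∈ C, c * b = b * c := fun c hc => mem_centralizer_singleton_iff.1 hc.2
    by_cases hall : ∀ u ∈ (P : Subgroup G), ⁅u, b⁆ = 1
    · intro u hu w _
      rw [hall u hu, one_mul, mul_one]
    push Not at hall
    obtain ⟨v, hv, hvne⟩ := hall
    have hC1 : ∀ x ∈ (P : Subgroup G), ∀ y ∈ (P : Subgroup G), x ^ p ∈ C ∧ ⁅x, y⁆ ∈ C :=
      pow_commutator_mem_of_index_dvd P.isPGroup' C inf_le_left (hidx b)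
    -- a commutator outside `C`
    have hout : ∃ u ∈ (P : Subgroup G), ⁅u, b⁆ ∉ C := by
      by_contra hc
      push Not at hc
      apply hvne
      rw [commutatorElement_eq_one_iff_mul_comm]
      refine (commute_of_translation hp hbo (hpk _ (inv_mem (hmemP v hv b)))
        ?_ (k := ⁅v, b⁆⁻¹) ?_).symm
      · exact ((show Commute ⁅v, b⁆ b from hCb _ (hc v hv)).inv_left.eq).symm
      · rw [commutatorElement_def]; group
    obtain ⟨u₁, hu₁, hs⟩ := hout
    set s := ⁅u₁, b⁆ with hsdef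
    have hsP : s ∈ (P : Subgroup G) := hmemP u₁ hu₁ b
    -- `P = ⟨s⟩ C`
    have hsplit : ∀ x ∈ (P : Subgroup G), ∀ t : G, t ∈ (P : Subgroup G) → t ∉ C →
        ∃ i : ℕ, ∃ c ∈ C, x = t ^ i * c := by
      intro x hx t ht htC
      let f : Fin p × C → (P : Subgroup G) := fun w =>
        ⟨t ^ (w.1 : ℕ) * w.2, mul_mem (pow_mem ht _) w.2.2.1⟩
      have hf : Function.Injective f := by
        have key : ∀ (k l : Fin p) (c c' : C), (k : ℕ) ≤ l →
            t ^ (k : ℕ) * (c : G) = t ^ (l : ℕ) * c' → (k : ℕ) = l := by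
          intro k l c c' hkl he
          by_contra hne
          apply htC
          have h1 : t ^ ((l : ℕ) - k) ∈ C := by
            have : t ^ ((l : ℕ) - k) = (c : G) * (c' : G)⁻¹ := by
              rw [eq_mul_inv_iff_mul_eq]
              apply mul_left_cancel (a := t ^ (k : ℕ))
              rw [← mul_assoc, ← pow_add, Nat.add_sub_cancel' hkl, he]
            rw [this]
            exact mul_mem c.2 (inv_mem c'.2)
          have hcop : ((l : ℕ) - k).Coprime p := by
            refine (hp.coprime_iff_not_dvd.2 fun hd => ?_).symm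
            have := Nat.le_of_dvd (by omega) hd
            have := l.2
            omega
          exact mem_of_coprime_pow hcop h1 (hC1 t ht t ht).1
        rintro ⟨k, c⟩ ⟨l, c'⟩ he
        have he' : t ^ (k : ℕ) * (c : G) = t ^ (l : ℕ) * c' := congrArg Subtype.val he
        have hkl : k = l := Fin.ext (by
          rcases Nat.le_total (k : ℕ) l with hle | hle
          · exact key k l c c' hle he'
          · exact (key l k c' c hle he'.symm).symm)
        subst hkl
        exact Prod.ext rfl (Subtype.ext (mul_left_cancel he'))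
      have hsurj := (hf.bijective_of_nat_card_le (by
        rw [Nat.card_prod, Nat.card_fin]
        exact Nat.le_of_dvd (Nat.mul_pos hp.pos Nat.card_pos) (hidx b))).2
      obtain ⟨⟨i, c⟩, hic⟩ := hsurj ⟨x, hx⟩
      exact ⟨i, c, c.2, (congrArg Subtype.val hic).symm⟩
    obtain ⟨α, c₀, hc₀, hα⟩ := hsplit _ (hPn.conj_mem s hsP b) s hsP hs
    -- `α` is not `1` modulo `p`
    have hcomm2 : ∀ x ∈ (P : Subgroup G), ∀ y ∈ (P : Subgroup G), ∀ w : G,
        w * ⁅x, y⁆ = ⁅x, y⁆ * w := fun x hx y hy => mem_center_iff.1 (hcen x hx y hy).2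
    have hα1 : ¬ α ≡ 1 [MOD p] := by
      intro hmod
      apply hs
      refine ⟨hsP, mem_centralizer_singleton_iff.2 ?_⟩
      obtain ⟨c, hc, hc'⟩ : ∃ c ∈ C, b * s * b⁻¹ = c * s := by
        refine ⟨s ^ α * c₀ * s⁻¹, ?_, by rw [hα]; group⟩
        have hz := hC1 s hsP s hsP
        obtain ⟨q', hq'⟩ : ∃ q' : ℤ, (α : ℤ) - 1 = p * q' := by
          obtain ⟨q', hq'⟩ := Nat.modEq_iff_dvd.1 hmod.symm
          exact ⟨q', by rw [← hq', Nat.cast_one]⟩
        have he : s ^ α * c₀ * s⁻¹ = (s ^ p) ^ q' * (s * c₀ * s⁻¹) := by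
          rw [← zpow_natCast s p, ← zpow_mul, ← hq', zpow_sub, zpow_one, zpow_natCast]
          group
        rw [he]
        refine mul_mem (zpow_mem hz.1 _) ?_
        have := mul_mem (hC1 s hsP c₀ hc₀.1).2 hc₀
        rwa [commutatorElement_def, inv_mul_cancel_right] at this
      exact (commute_of_translation hp hbo (hpk c hc.1) (hCb c hc).symm hc').symm
    -- an eigen-element
    obtain ⟨κ, hκ⟩ : ∃ κ : ℕ, κ * α ≡ κ + 1 [MOD p] := by
      haveI := NeZero.of_pos hp.pos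
      have hne : (α : ZMod p) - 1 ≠ 0 := fun h0 => hα1 (by
        rw [← ZMod.natCast_eq_natCast_iff, Nat.cast_one]; exact sub_eq_zero.1 h0)
      refine ⟨(((α : ZMod p) - 1)⁻¹).val, ?_⟩
      rw [← ZMod.natCast_eq_natCast_iff, Nat.cast_mul, Nat.cast_add, ZMod.natCast_zmod_val,
        Nat.cast_one]
      field_simp
      ring
    set s' := s * c₀ ^ κ with hs'
    have hs'P : s' ∈ (P : Subgroup G) := mul_mem hsP (pow_mem hc₀.1 κ)
    have hs'C : s' ∉ C := fun hm => hs (by
      have := mul_mem hm (inv_mem (pow_mem hc₀ κ))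
      rwa [hs', mul_inv_cancel_right] at this)
    -- conjugation sends `s'` to `s' ^ α` times a central element
    obtain ⟨z, hzc, hzs⟩ : ∃ z : G, (∀ w : G, w * z = z * w) ∧ b * s' * b⁻¹ = s' ^ α * z := by
      have hbc : b * c₀ ^ κ * b⁻¹ = c₀ ^ κ :=
        mul_inv_eq_iff_eq_mul.2 ((show Commute b c₀ from (hCb c₀ hc₀).symm).pow_right κ).eq
      have h1 : b * s' * b⁻¹ = s ^ α * c₀ ^ (κ + 1) := by
        rw [hs', show b * (s * c₀ ^ κ) * b⁻¹ = (b * s * b⁻¹) * (b * c₀ ^ κ * b⁻¹) by group, hα,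
          hbc, pow_succ']
        group
      refine ⟨(s' ^ α)⁻¹ * (s ^ α * c₀ ^ (κ + 1)), ?_, by rw [h1]; group⟩
      have hker : ∀ (f : G →* G ⧸ center G), f = QuotientGroup.mk' (center G) →
          f ((s' ^ α)⁻¹ * (s ^ α * c₀ ^ (κ + 1))) = 1 := by
        intro f hf
        have hcc : Commute (f s) (f (c₀ ^ κ)) := by
          rw [← commutatorElement_eq_one_iff_commute, ← map_commutatorElement, hf,
            QuotientGroup.mk'_apply, QuotientGroup.eq_one_iff]
          exact (hcen s hsP _ (pow_mem hc₀.1 κ)).2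
        have hp1 : f c₀ ^ p = 1 := by
          rw [← map_pow, hf, QuotientGroup.mk'_apply, QuotientGroup.eq_one_iff]
          exact (hcen c₀ hc₀.1 c₀ hc₀.1).1
        rw [hs', map_mul, map_inv, map_pow, map_mul, map_mul, hcc.mul_pow, map_pow f s,
          map_pow f c₀ κ, ← pow_mul, map_pow, pow_eq_pow_of_modEq hκ hp1, inv_mul_cancel]
      exact mem_center_iff.1 ((QuotientGroup.eq_one_iff _).1 (hker _ rfl))
    have hs'c : ∀ c ∈ C, s' * c = c * s' := by
      intro c hc
      have hz1 := hcomm2 s' hs'P c hc.1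
      have hbc : b * c * b⁻¹ = c := mul_inv_eq_iff_eq_mul.2 (hCb c hc).symm
      have h1 : ⁅s', c⁆ = ⁅s' ^ α * z, c⁆ := by
        calc ⁅s', c⁆ = b * ⁅s', c⁆ * b⁻¹ := by rw [hz1 b, mul_inv_cancel_right]
          _ = ⁅b * s' * b⁻¹, b * c * b⁻¹⁆ := conjugate_commutatorElement _ _ _
          _ = _ := by rw [hzs, hbc]
      have h2 : ∀ i : ℕ, ⁅s' ^ i, c⁆ = ⁅s', c⁆ ^ i := by
        intro i
        induction i with
        | zero => simp [commutatorElement_def]
        | succ i ih =>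
          rw [pow_succ', commutatorElement_mul_left_eq_conj_mul, ih, pow_succ]
          have hcm : s' * ⁅s', c⁆ ^ i * s'⁻¹ = ⁅s', c⁆ ^ i := by
            rw [(((show Commute s' ⁅s', c⁆ from hz1 s').pow_right i)).eq, mul_inv_cancel_right]
          rw [hcm]
      have h3 : ⁅s' ^ α * z, c⁆ = ⁅s' ^ α, c⁆ := by
        simp only [commutatorElement_def]
        rw [show s' ^ α * z * c * (s' ^ α * z)⁻¹ * c⁻¹ = s' ^ α * (z * c * z⁻¹) * (s' ^ α)⁻¹ * c⁻¹ by
          group, ← hzc c, mul_inv_cancel_right]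
      rw [h3, h2] at h1
      have hp1 : ⁅s', c⁆ ^ p = 1 := by
        rw [← h2, commutatorElement_eq_one_iff_mul_comm]
        exact (mem_center_iff.1 (hcen s' hs'P s' hs'P).1 c).symm
      rw [← commutatorElement_eq_one_iff_mul_comm]
      by_contra hne
      apply hα1
      have hord : orderOf ⁅s', c⁆ = p := orderOf_eq_prime hp1 hne
      have h4 : ⁅s', c⁆ ^ α = ⁅s', c⁆ ^ 1 := by rw [pow_one]; exact h1.symm
      rwa [pow_eq_pow_iff_modEq, hord] at h4
    -- so `s'` is central in `P`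
    have hs'Z : ∀ w ∈ (P : Subgroup G), Commute s' w := by
      intro w hw
      obtain ⟨i, c, hc, rfl⟩ := hsplit w hw s' hs'P hs'C
      exact ((Commute.refl s').pow_right i).mul_right (show Commute s' c from hs'c c hc)
    intro u hu w hw
    obtain ⟨i, c, hc, rfl⟩ := hsplit u hu s' hs'P hs'C
    have he : ⁅s' ^ i * c, b⁆ = s' ^ i * (b * s' * b⁻¹)⁻¹ ^ i := by
      have hbc : b * c⁻¹ * b⁻¹ = c⁻¹ :=
        mul_inv_eq_iff_eq_mul.2 ((show Commute b c from (hCb c hc).symm).inv_right).eq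
      rw [commutatorElement_def, inv_pow, conj_pow,
        show s' ^ i * c * b * (s' ^ i * c)⁻¹ * b⁻¹ =
          s' ^ i * c * (b * c⁻¹ * b⁻¹) * (b * (s' ^ i)⁻¹ * b⁻¹) by group, hbc]
      group
    rw [he, hzs]
    have hcs : Commute (s' ^ α * z) w :=
      ((hs'Z w hw).pow_left α).mul_left (show Commute z w from (hzc w).symm)
    exact (((hs'Z w hw).pow_left i).mul_left (hcs.inv_left.pow_left i)).eq
  -- the homomorphisms
  have hmul : ∀ g : G, ∀ u ∈ (P : Subgroup G), ∀ v ∈ (P : Subgroup G),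
      ⁅u * v, g⁆ = ⁅v, g⁆ * ⁅u, g⁆ := by
    intro g u hu v hv
    rw [commutatorElement_mul_left_eq_conj_mul, ← hZP g v hv u hu, mul_inv_cancel_right]
  let δ : G → ((P : Subgroup G) →* G) := fun g =>
    { toFun := fun u => ⁅(u : G), g⁆
      map_one' := by simp [commutatorElement_def]
      map_mul' := fun u v => by
        rw [Subgroup.coe_mul, hmul g u u.2 v v.2, hZP g v v.2 _ (hmemP u u.2 g)] }
  have hδ : ∀ (g : G) (u : (P : Subgroup G)), δ g u = ⁅(u : G), g⁆ := fun g u => rfl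
  set L := fun g : G => (δ g).range with hL
  have hLcard : ∀ g : G, Nat.card (L g) ∣ p := by
    intro g
    have h1 := (δ g).ker.card_mul_index
    rw [index_ker] at h1
    have h2 := hidx g
    have h3 : Nat.card (δ g).ker =
        Nat.card ((P : Subgroup G) ⊓ centralizer ({g} : Set G) : Subgroup G) := by
      rw [← card_map_of_injective (K := (δ g).ker) (P : Subgroup G).subtype_injective]
      congr 2
      ext u
      rw [mem_map, mem_inf, mem_centralizer_singleton_iff]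
      constructor
      · rintro ⟨v, hv, rfl⟩
        exact ⟨v.2, commutatorElement_eq_one_iff_mul_comm.1 (MonoidHom.mem_ker.1 hv)⟩
      · rintro ⟨hu, hu'⟩
        exact ⟨⟨u, hu⟩, MonoidHom.mem_ker.2 (commutatorElement_eq_one_iff_mul_comm.2 hu'), rfl⟩
    rw [← h1, h3, mul_comm p] at h2
    exact (Nat.mul_dvd_mul_iff_left Nat.card_pos).1 h2
  have hLle : ∀ g : G, L g ≤ (P : Subgroup G) := by
    rintro g _ ⟨u, rfl⟩
    exact hmemP u u.2 g
  have hLeq : ∀ (g : G) (x : G), x ∈ L g → x ≠ 1 → L g = zpowers x := by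
    intro g x hx hx1
    refine (Subgroup.eq_of_le_of_card_ge (zpowers_le.2 hx) ?_).symm
    rw [Nat.card_zpowers]
    have h1 : orderOf x ∣ Nat.card (L g) := by
      rw [← Subgroup.orderOf_mk x hx]; exact orderOf_dvd_natCard _
    rcases (Nat.dvd_prime hp).1 (h1.trans (hLcard g)) with h2 | h2
    · exact absurd (orderOf_eq_one_iff.1 h2) hx1
    · rw [h2]; exact Nat.le_of_dvd hp.pos (hLcard g)
  have hpair : ∀ a b : G, L a ≠ ⊥ → L b ≠ ⊥ → L a ≠ L b → (δ a).ker = (δ b).ker := by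
    intro a b ha hb hne
    by_contra hK
    apply hne
    have hindex : ∀ g : G, L g ≠ ⊥ → (δ g).ker.index = p := by
      intro g hg
      rw [index_ker]
      rcases (Nat.dvd_prime hp).1 (hLcard g) with h1 | h1
      · exact absurd (card_eq_one.1 h1) hg
      · exact h1
    have hnle : ∀ a b : G, L a ≠ ⊥ → L b ≠ ⊥ → (δ a).ker ≠ (δ b).ker →
        ∃ u, u ∈ (δ a).ker ∧ u ∉ (δ b).ker := by
      intro a b ha hb hne'
      by_contra hc
      push Not at hc
      apply hne'
      refine Subgroup.eq_of_le_of_card_ge (fun u hu => hc u hu) ?_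
      have e1 := (δ a).ker.card_mul_index
      have e2 := (δ b).ker.card_mul_index
      rw [hindex a ha] at e1
      rw [hindex b hb, ← e1] at e2
      exact (Nat.eq_of_mul_eq_mul_right hp.pos e2).le
    obtain ⟨u, hua, hub⟩ := hnle a b ha hb hK
    obtain ⟨w, hwb, hwa⟩ := hnle b a hb ha (Ne.symm hK)
    have key : ∀ a b : G, ∀ u : (P : Subgroup G), δ (a * b) u = δ a u * (a * δ b u * a⁻¹) := by
      intro a b u
      simp only [hδ, commutatorElement_def]
      group
    have hu1 : δ (a * b) u = a * δ b u * a⁻¹ := by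
      rw [key, MonoidHom.mem_ker.1 hua, one_mul]
    have hw1 : δ (a * b) w = δ a w := by
      rw [key, MonoidHom.mem_ker.1 hwb, mul_one, mul_inv_cancel, mul_one]
    have hne1 : δ (a * b) w ≠ 1 := by rw [hw1]; exact hwa
    have hmem : a * δ b u * a⁻¹ ∈ L a := by
      rw [hLeq a (δ a w) ⟨w, rfl⟩ hwa, ← hw1, ← hLeq (a * b) _ ⟨w, rfl⟩ hne1, ← hu1]
      exact ⟨u, rfl⟩
    have hx : δ b u ∈ L a := by
      have hsplit : δ b u = ⁅δ b u, a⁆ * (a * δ b u * a⁻¹) := by
        simp only [commutatorElement_def]; group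
      rw [hsplit]
      exact mul_mem ⟨⟨δ b u, hmemP u u.2 b⟩, rfl⟩ hmem
    rw [hLeq a _ hx hub, hLeq b _ ⟨u, rfl⟩ hub]
  -- at most one nontrivial image
  have hone : ∀ a b : G, L a ≠ ⊥ → L b ≠ ⊥ → L a = L b := by
    intro a b ha hb
    by_contra hne
    have hK : ∀ g : G, (δ a).ker ≤ (δ g).ker := by
      intro g
      by_cases hg : L g = ⊥
      · intro u _
        exact MonoidHom.mem_ker.2 (mem_bot.1 (hg ▸ (⟨u, rfl⟩ : δ g u ∈ L g)))
      by_cases hga : L g = L a
      · rw [hpair a b ha hb hne, hpair g b hg hb (hga ▸ hne)]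
      · rw [hpair g a hg ha hga]
    have hcentral : ∀ k ∈ (δ a).ker, ∀ g : G, (k : G) * g = g * k := fun k hk g =>
      commutatorElement_eq_one_iff_mul_comm.1 (MonoidHom.mem_ker.1 (hK g hk))
    obtain ⟨u₀, hu₀⟩ : ∃ u, u ∉ (δ a).ker := by
      by_contra hc
      push Not at hc
      apply ha
      rw [eq_bot_iff]
      rintro _ ⟨u, rfl⟩
      exact mem_bot.2 (MonoidHom.mem_ker.1 (hc u))
    have hKidx : (δ a).ker.index ∣ p := by rw [index_ker]; exact hLcard a
    have hpowK : ∀ u : (P : Subgroup G), u ^ p ∈ (δ a).ker := by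
      intro u
      rw [MonoidHom.mem_ker, map_pow]
      have h1 : (⟨δ a u, u, rfl⟩ : L a) ^ p = 1 := by
        exact orderOf_dvd_iff_pow_eq_one.1 ((_root_.orderOf_dvd_natCard _).trans (hLcard a))
      exact congrArg Subtype.val h1
    have hsplit : ∀ u : (P : Subgroup G), ∃ i : ℕ, ∃ k ∈ (δ a).ker, u = u₀ ^ i * k := by
      intro u
      have hne1 : δ a u₀ ≠ 1 := hu₀
      have hmem : δ a u ∈ zpowers (δ a u₀) := by
        rw [← hLeq a _ ⟨u₀, rfl⟩ hne1]; exact ⟨u, rfl⟩
      rw [← mem_powers_iff_mem_zpowers] at hmem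
      obtain ⟨i, hi⟩ := hmem
      refine ⟨i, (u₀ ^ i)⁻¹ * u, ?_, by group⟩
      rw [MonoidHom.mem_ker, map_mul, map_inv, map_pow]
      dsimp only at hi
      rw [hi, inv_mul_cancel]
    have hPab : ∀ u v : (P : Subgroup G), u * v = v * u := by
      intro u v
      obtain ⟨i, k, hk, rfl⟩ := hsplit u
      obtain ⟨j, l, hl, rfl⟩ := hsplit v
      have hck : ∀ x : (P : Subgroup G), Commute k x := fun x => Subtype.ext (hcentral k hk x)
      have hcl : ∀ x : (P : Subgroup G), Commute l x := fun x => Subtype.ext (hcentral l hl x)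
      exact ((((Commute.refl u₀).pow_pow i j).mul_right (hcl _).symm).mul_left
        ((hck _).mul_right (hck l))).eq
    -- a translation is trivial
    have htrans : ∀ g : G, δ g u₀ ∈ (δ a).ker.map (P : Subgroup G).subtype → δ g u₀ = 1 := by
      intro g hg
      obtain ⟨x, y, -, -, hxy, -, ⟨ka, hka⟩, hyo⟩ := exists_parts (p := p) g
      have hxP : x ∈ (P : Subgroup G) := CfsgLib.Transfer.isPGroup_mem_of_mem_normalizer P
        (by rw [normalizer_eq_top]; exact mem_top x) ka hka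
      have hx1 : δ x u₀ = 1 :=
        commutatorElement_eq_one_iff_mul_comm.2 (congrArg Subtype.val (hPab u₀ ⟨x, hxP⟩))
      have he : δ g u₀ = x * δ y u₀ * x⁻¹ := by
        rw [← hxy]
        have : δ (x * y) u₀ = δ x u₀ * (x * δ y u₀ * x⁻¹) := by
          simp only [hδ, commutatorElement_def]; group
        rw [this, hx1, one_mul]
      obtain ⟨k, hk, hk'⟩ := hg
      have hky : δ y u₀ = (k : G) := by
        have h1 : δ y u₀ = x⁻¹ * δ g u₀ * x := by rw [he]; group
        rw [h1, ← hk', Subgroup.coe_subtype, mul_assoc, hcentral k hk, inv_mul_cancel_left]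
      have hy1 : (u₀ : G) * y = y * u₀ := by
        refine (commute_of_translation hp hyo (hpk _ (inv_mem k.2))
          (((show Commute (k : G) y from hcentral k hk y).inv_left).eq.symm) ?_).symm
        rw [← hky, hδ, commutatorElement_def]
        group
      rw [he, hδ y, commutatorElement_eq_one_iff_mul_comm.2 hy1, mul_one, mul_inv_cancel]
    -- the action on `P / K`
    have hact : ∀ g : G, ∃ i : ℕ, ∃ k ∈ (δ a).ker, g * u₀ * g⁻¹ = (u₀ : G) ^ i * k := by
      intro g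
      obtain ⟨i, k, hk, he⟩ := hsplit ⟨_, hPn.conj_mem _ u₀.2 g⟩
      exact ⟨i, k, hk, congrArg Subtype.val he⟩
    obtain ⟨i, k₁, hk₁, hi⟩ := hact a
    obtain ⟨j, k₂, hk₂, hj⟩ := hact b
    have hc₁ := hcentral k₁ hk₁
    have hc₂ := hcentral k₂ hk₂
    have hab : a * b * u₀ * (a * b)⁻¹ = (u₀ : G) ^ (i * j) * ((k₁ : G) ^ j * k₂) := by
      calc a * b * u₀ * (a * b)⁻¹ = a * (b * u₀ * b⁻¹) * a⁻¹ := by group
        _ = a * ((u₀ : G) ^ j * k₂) * a⁻¹ := by rw [hj]
        _ = (a * u₀ * a⁻¹) ^ j * k₂ := by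
            rw [mul_assoc, mul_assoc, hc₂ a⁻¹, conj_pow]; group
        _ = _ := by
            rw [hi, (show Commute (k₁ : G) u₀ from hc₁ u₀).symm.pow_left i |>.mul_pow, ← pow_mul,
              mul_assoc]
    have hba : b * a * u₀ * (b * a)⁻¹ = (u₀ : G) ^ (j * i) * ((k₂ : G) ^ i * k₁) := by
      calc b * a * u₀ * (b * a)⁻¹ = b * (a * u₀ * a⁻¹) * b⁻¹ := by group
        _ = b * ((u₀ : G) ^ i * k₁) * b⁻¹ := by rw [hi]
        _ = (b * u₀ * b⁻¹) ^ i * k₁ := by
            rw [mul_assoc, mul_assoc, hc₁ b⁻¹, conj_pow]; group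
        _ = _ := by
            rw [hj, (show Commute (k₂ : G) u₀ from hc₂ u₀).symm.pow_left j |>.mul_pow, ← pow_mul,
              mul_assoc]
    have heq : (k₁ : G) ^ j * k₂ = (k₂ : G) ^ i * k₁ := by
      have h2 : δ ((a * b)⁻¹ * (b * a)) u₀ = 1 := by
        apply htrans
        set c := (a * b)⁻¹ * (b * a) with hc
        set w := (k₁ : G) ^ j * k₂ * ((k₂ : G) ^ i * k₁)⁻¹ with hw
        have hwc : ∀ g : G, Commute w g := fun g =>
          (((show Commute (k₁ : G) g from hc₁ g).pow_left j).mul_left (hc₂ g)).mul_left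
            ((((show Commute (k₂ : G) g from hc₂ g).pow_left i).mul_left (hc₁ g)).inv_left)
        have h4 : c * u₀ * c⁻¹ = (u₀ : G) * w⁻¹ := by
          calc c * u₀ * c⁻¹ = (a * b)⁻¹ * (b * a * u₀ * (b * a)⁻¹) * (a * b) := by rw [hc]; group
            _ = (a * b)⁻¹ * ((a * b * u₀ * (a * b)⁻¹) * w⁻¹) * (a * b) := by
              have hY : ∀ g : G, Commute ((k₂ : G) ^ i * k₁) g := fun g =>
                ((show Commute (k₂ : G) g from hc₂ g).pow_left i).mul_left (hc₁ g)
              have hXY : ((k₁ : G) ^ j * k₂) * ((k₂ : G) ^ i * k₁) =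
                  ((k₂ : G) ^ i * k₁) * ((k₁ : G) ^ j * k₂) := ((hY _).eq).symm
              rw [hba, hab, hw, mul_comm j i, mul_inv_rev ((k₁ : G) ^ j * k₂), inv_inv,
                mul_assoc ((u₀ : G) ^ (i * j)), ← mul_assoc ((k₁ : G) ^ j * k₂), hXY,
                mul_inv_cancel_right]
            _ = (u₀ : G) * ((a * b)⁻¹ * w⁻¹ * (a * b)) := by group
            _ = (u₀ : G) * w⁻¹ := by
              rw [((hwc (a * b)⁻¹).inv_left.symm).eq, inv_mul_cancel_right]
        refine ⟨k₁ ^ j * k₂ * (k₂ ^ i * k₁)⁻¹,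
          mul_mem (mul_mem (pow_mem hk₁ _) hk₂) (inv_mem (mul_mem (pow_mem hk₂ _) hk₁)), ?_⟩
        calc ((P : Subgroup G).subtype (k₁ ^ j * k₂ * (k₂ ^ i * k₁)⁻¹)) = w := rfl
          _ = (u₀ : G) * ((u₀ : G) * w⁻¹)⁻¹ := by
            rw [mul_inv_rev, inv_inv, ← mul_assoc, ← (hwc u₀).eq, mul_inv_cancel_right]
          _ = δ c u₀ := by rw [← h4, hδ, commutatorElement_def]; group
      rw [hδ, commutatorElement_eq_one_iff_mul_comm] at h2
      have h3 : a * b * u₀ * (a * b)⁻¹ = b * a * u₀ * (b * a)⁻¹ := by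
        calc a * b * u₀ * (a * b)⁻¹ = a * b * (u₀ * ((a * b)⁻¹ * (b * a))) * (b * a)⁻¹ := by group
          _ = a * b * ((a * b)⁻¹ * (b * a) * u₀) * (b * a)⁻¹ := by rw [h2]
          _ = _ := by group
      rw [hab, hba, mul_comm j i] at h3
      exact mul_left_cancel h3
    -- the two lines meet
    set A := ((u₀ : G) * ((u₀ : G) ^ i)⁻¹) * (k₁ : G)⁻¹ with hA
    set B := ((u₀ : G) * ((u₀ : G) ^ j)⁻¹) * (k₂ : G)⁻¹ with hB
    have hAL : δ a u₀ = A := by
      rw [hδ, commutatorElement_def, hA,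
        show (u₀ : G) * a * (u₀ : G)⁻¹ * a⁻¹ = (u₀ : G) * (a * u₀ * a⁻¹)⁻¹ by group, hi, mul_inv_rev,
        (show Commute (k₁ : G) ((u₀ : G) ^ i) from hc₁ _).inv_inv.eq]
      group
    have hBL : δ b u₀ = B := by
      rw [hδ, commutatorElement_def, hB,
        show (u₀ : G) * b * (u₀ : G)⁻¹ * b⁻¹ = (u₀ : G) * (b * u₀ * b⁻¹)⁻¹ by group, hj, mul_inv_rev,
        (show Commute (k₂ : G) ((u₀ : G) ^ j) from hc₂ _).inv_inv.eq]
      group
    have hAB : A ^ (1 - (j : ℤ)) = B ^ (1 - (i : ℤ)) := by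
      have e1 : A = (u₀ : G) ^ (1 - (i : ℤ)) * (k₁ : G)⁻¹ := by
        rw [hA, zpow_sub, zpow_one, zpow_natCast]
      have e2 : B = (u₀ : G) ^ (1 - (j : ℤ)) * (k₂ : G)⁻¹ := by
        rw [hB, zpow_sub, zpow_one, zpow_natCast]
      rw [e1, e2, ((show Commute (k₁ : G) u₀ from hc₁ u₀).inv_left.symm.zpow_left _).mul_zpow,
        ((show Commute (k₂ : G) u₀ from hc₂ u₀).inv_left.symm.zpow_left _).mul_zpow, ← zpow_mul,
        ← zpow_mul, mul_comm (1 - (i : ℤ))]
      congr 1
      have h5 : (k₁ : G) ^ (j : ℤ) * k₂ = (k₂ : G) ^ (i : ℤ) * k₁ := by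
        rw [zpow_natCast, zpow_natCast]; exact heq
      rw [inv_zpow', inv_zpow', neg_sub, neg_sub, zpow_sub, zpow_sub, zpow_one, zpow_one]
      rw [mul_inv_eq_iff_eq_mul, mul_assoc, ← hc₁ (k₂ : G)⁻¹,
        ← mul_assoc, eq_comm, mul_inv_eq_iff_eq_mul]
      calc (k₂ : G) ^ (i : ℤ) * (k₁ : G) = (k₁ : G) ^ (j : ℤ) * k₂ := h5.symm
        _ = _ := rfl
    have hndvd : ∀ (g : G) (n : ℕ) (k : (P : Subgroup G)), L g ≠ ⊥ → k ∈ (δ a).ker →
        g * u₀ * g⁻¹ = (u₀ : G) ^ n * k → ¬ ((p : ℤ) ∣ 1 - (n : ℤ)) := by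
      intro g n k hg hk hgu ⟨t, ht⟩
      apply hg
      have h0 : δ g u₀ = 1 := by
        apply htrans
        refine ⟨(u₀ ^ p) ^ t * k⁻¹, mul_mem (zpow_mem (hpowK u₀) _) (inv_mem hk), ?_⟩
        calc ((P : Subgroup G).subtype ((u₀ ^ p) ^ t * k⁻¹)) = ((u₀ : G) ^ p) ^ t * (k : G)⁻¹ := rfl
          _ = (u₀ : G) * ((u₀ : G) ^ n)⁻¹ * (k : G)⁻¹ := by
            rw [← zpow_natCast (u₀ : G) p, ← zpow_mul, ← ht, zpow_sub, zpow_one, zpow_natCast]
          _ = δ g u₀ := by
            rw [hδ, commutatorElement_def,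
              show (u₀ : G) * g * (u₀ : G)⁻¹ * g⁻¹ = (u₀ : G) * (g * u₀ * g⁻¹)⁻¹ by group, hgu,
              mul_inv_rev, ((show Commute (k : G) ((u₀ : G) ^ n) from hcentral k hk _).inv_inv).eq]
            group
      rw [eq_bot_iff]
      rintro _ ⟨u, rfl⟩
      obtain ⟨m, l, hl, rfl⟩ := hsplit u
      rw [mem_bot, map_mul, map_pow, h0, one_pow, one_mul]
      exact MonoidHom.mem_ker.1 (hK g hl)
    have hj' := hndvd b j k₂ hb hk₂ hj
    have hA1 : A ^ (1 - (j : ℤ)) ≠ 1 := by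
      intro h1
      have hA0 : A ≠ 1 := hAL ▸ (fun e => hu₀ (MonoidHom.mem_ker.2 e))
      have h2 : orderOf A = p := by
        refine ((Nat.dvd_prime hp).1 ?_).resolve_left (fun e => hA0 (orderOf_eq_one_iff.1 e))
        refine Dvd.dvd.trans ?_ (hLcard a)
        have hAm : A ∈ L a := hAL ▸ ⟨u₀, rfl⟩
        rw [← Subgroup.orderOf_mk A hAm]
        exact orderOf_dvd_natCard _
      exact hj' (h2 ▸ orderOf_dvd_iff_zpow_eq_one.2 h1)
    apply hne
    rw [hLeq a _ (zpow_mem (hAL ▸ ⟨u₀, rfl⟩ : A ∈ L a) (1 - (j : ℤ))) hA1]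
    exact (hLeq b _ (hAB ▸ zpow_mem (hBL ▸ ⟨u₀, rfl⟩ : B ∈ L b) (1 - (i : ℤ))) hA1).symm
  -- `[P, G]` has order dividing `p`
  obtain ⟨D₀, hD₀, hD₀le⟩ : ∃ D₀ : Subgroup G, Nat.card D₀ ∣ p ∧
      ⁅(P : Subgroup G), (⊤ : Subgroup G)⁆ ≤ D₀ := by
    by_cases hex : ∃ a, L a ≠ ⊥
    · obtain ⟨a, ha⟩ := hex
      refine ⟨L a, hLcard a, commutator_le.2 fun u hu g _ => ?_⟩
      by_cases hg : L g = ⊥
      · have h1 : δ g ⟨u, hu⟩ ∈ L g := ⟨_, rfl⟩
        rw [hg, mem_bot, hδ] at h1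
        rw [h1]; exact one_mem _
      · rw [hone a g ha hg]; exact ⟨⟨u, hu⟩, rfl⟩
    · push Not at hex
      refine ⟨⊥, by rw [Subgroup.card_bot]; exact one_dvd p, commutator_le.2 fun u hu g _ => ?_⟩
      have h1 : δ g ⟨u, hu⟩ ∈ L g := ⟨_, rfl⟩
      rwa [hex g, hδ] at h1
  refine (card_dvd_of_le ?_).trans ((card_dvd_of_le hD₀le).trans hD₀)
  -- `P ∩ G' ≤ [P, G]`
  set D := ⁅(P : Subgroup G), (⊤ : Subgroup G)⁆ with hD
  haveI : D.Normal := commutator_normal _ _
  set Pbar := P.mapSurjective (QuotientGroup.mk'_surjective D) with hPbar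
  have hcentralP : normalizer ((Pbar : Subgroup (G ⧸ D)) : Set (G ⧸ D)) ≤
      centralizer ((Pbar : Subgroup (G ⧸ D)) : Set (G ⧸ D)) := by
    intro g _
    rw [mem_centralizer_iff]
    rintro _ ⟨u, hu, rfl⟩
    obtain ⟨g, rfl⟩ := QuotientGroup.mk'_surjective D g
    have h1 : QuotientGroup.mk' D ⁅u, g⁆ = 1 :=
      (QuotientGroup.eq_one_iff _).2 (commutator_mem_commutator hu (mem_top g))
    rwa [map_commutatorElement, commutatorElement_eq_one_iff_mul_comm] at h1
  obtain ⟨R, N, hN, hNR⟩ := CfsgLib.Transfer.hasNormalPComplement_of_normalizer_le Pbar hcentralP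
  haveI := hN
  have hRc : ∀ r ∈ (R : Subgroup (G ⧸ D)), ∀ g : G ⧸ D, r * g = g * r := by
    intro r hr g
    have hnorm : (Pbar : Subgroup (G ⧸ D)).Normal := Subgroup.Normal.map hPn _ (QuotientGroup.mk'_surjective D)
    obtain ⟨x, hx⟩ := MulAction.exists_smul_eq (G ⧸ D) Pbar R
    have hRP : (R : Subgroup (G ⧸ D)) = Pbar := by
      rw [← hx, Sylow.smul_eq_of_normal]
    rw [hRP] at hr
    exact mem_centralizer_iff.1 (hcentralP (show g ∈ normalizer _ by
      rw [normalizer_eq_top]; exact mem_top g)) r hr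
  have hGN : commutator (G ⧸ D) ≤ N := by
    rw [_root_.commutator_def, commutator_le]
    intro x _ y _
    obtain ⟨⟨nx, rx⟩, hx⟩ := hNR.2 x
    obtain ⟨⟨ny, ry⟩, hy⟩ := hNR.2 y
    dsimp only at hx hy
    have e : ⁅x, y⁆ = ⁅(nx : G ⧸ D), (ny : G ⧸ D)⁆ := by
      rw [← hx, ← hy]
      have h1 := hRc rx rx.2
      have h2 := hRc ry ry.2
      simp only [commutatorElement_def, mul_inv_rev]
      calc (nx : G ⧸ D) * rx * (ny * ry) * ((rx : G ⧸ D)⁻¹ * (nx : G ⧸ D)⁻¹) *
            ((ry : G ⧸ D)⁻¹ * (ny : G ⧸ D)⁻¹)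
          = nx * ((rx : G ⧸ D) * (ny * ry) * (rx : G ⧸ D)⁻¹) * (nx : G ⧸ D)⁻¹ *
            ((ry : G ⧸ D)⁻¹ * (ny : G ⧸ D)⁻¹) := by group
        _ = nx * (ny * ry) * (nx : G ⧸ D)⁻¹ * ((ry : G ⧸ D)⁻¹ * (ny : G ⧸ D)⁻¹) := by
            rw [h1, mul_inv_cancel_right]
        _ = nx * ny * ((ry : G ⧸ D) * (nx : G ⧸ D)⁻¹ * (ry : G ⧸ D)⁻¹) * (ny : G ⧸ D)⁻¹ := by group
        _ = _ := by rw [h2, mul_inv_cancel_right]
    rw [e, commutatorElement_def]
    exact mul_mem (mul_mem (mul_mem nx.2 ny.2) (inv_mem nx.2)) (inv_mem ny.2)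
  intro x hx
  rw [← QuotientGroup.eq_one_iff, ← QuotientGroup.mk'_apply]
  have h1 : QuotientGroup.mk' D x ∈ N := by
    apply hGN
    have := mem_map_of_mem (QuotientGroup.mk' D) hx.2
    rw [_root_.commutator_def, map_commutator, map_top_of_surjective _ (QuotientGroup.mk'_surjective D)] at this
    exact this
  have h2 : QuotientGroup.mk' D x ∈ (Pbar : Subgroup (G ⧸ D)) := mem_map_of_mem _ hx.1
  obtain ⟨r, hr⟩ := MulAction.exists_smul_eq (G ⧸ D) Pbar R
  have hnorm : (Pbar : Subgroup (G ⧸ D)).Normal := Subgroup.Normal.map hPn _ (QuotientGroup.mk'_surjective D)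
  rw [← show (R : Subgroup (G ⧸ D)) = Pbar by rw [← hr, Sylow.smul_eq_of_normal]] at h2
  exact Subgroup.disjoint_def.1 hNR.disjoint h1 h2
where
  mem_of_coprime_pow {K : Subgroup G} {c : G} {a b : ℕ} (hab : a.Coprime b) (ha : c ^ a ∈ K)
      (hb : c ^ b ∈ K) : c ∈ K := by
    have h := mul_mem (K.zpow_mem ha (Nat.gcdA a b)) (K.zpow_mem hb (Nat.gcdB a b))
    rw [← zpow_natCast, ← zpow_natCast, ← zpow_mul, ← zpow_mul, ← zpow_add, ← Nat.gcd_eq_gcd_ab,
      hab.gcd_eq_one] at h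
    simpa using h

end CfsgLib.SquarefreeClass
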