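import Cfsg.Agent.Lib.Transfer.NormalComplement
import Cfsg.Agent.Lib.Structure81.ConjCover

/-!
Tools for groups with class sizes having small `p`-part: central `P^p P'` and the normal
`p`-complement for the smallest prime.
-/

set_option autoImplicit false
set_option linter.style.haveILetI false

namespace CfsgLib.SquarefreeClass

open Subgroup
open scoped commutatorElement

universe u

variable {G : Type u} [Group G] [Finite G] {p : ℕ} [hp : Fact p.Prime]

/-- A power of an element with prime-to-`p` order which generates the same image in a group where the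
image has prime-to-`p` order. -/
theorem exists_pow_coprime_lift {H : Type*} [Group H] (f : G →* H) (x : G)
    (h : ¬ p ∣ orderOf (f x)) : ∃ i : ℕ, f (x ^ i) = f x ∧ ¬ p ∣ orderOf (x ^ i) := by
  obtain ⟨e, r, hr, hfac⟩ := Nat.exists_eq_pow_mul_and_not_dvd (orderOf_pos x).ne' p hp.out.ne_one
  obtain ⟨t, ht⟩ := exists_pow_eq_self_of_coprime (x := f x) (n := p ^ e)
    ((hp.out.coprime_iff_not_dvd.2 h).pow_left e)
  refine ⟨p ^ e * t, by rw [map_pow, pow_mul]; exact ht, fun hd => hr (hd.trans ?_)⟩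
  rw [pow_mul]
  refine (orderOf_pow_dvd t).trans ?_
  rw [orderOf_pow_of_dvd (pow_pos hp.out.pos e).ne' (hfac ▸ dvd_mul_right _ _), hfac,
    Nat.mul_div_cancel_left _ (pow_pos hp.out.pos e)]

/-- Decomposition into a `p`-part and a `p'`-part, both powers of the element. -/
theorem exists_parts (x : G) : ∃ a b : G, a ∈ zpowers x ∧ b ∈ zpowers x ∧ a * b = x ∧
    Commute a b ∧ (∃ k, a ^ p ^ k = 1) ∧ ¬ p ∣ orderOf b := by
  obtain ⟨e, r, hr, hfac⟩ := Nat.exists_eq_pow_mul_and_not_dvd (orderOf_pos x).ne' p hp.out.ne_one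
  have hcop : r.Coprime (p ^ e) := ((hp.out.coprime_iff_not_dvd.2 hr).symm).pow_right e
  refine ⟨(x ^ r) ^ Nat.gcdA r (p ^ e), (x ^ p ^ e) ^ Nat.gcdB r (p ^ e),
    zpow_mem (pow_mem (mem_zpowers x) _) _, zpow_mem (pow_mem (mem_zpowers x) _) _, ?_,
    ((Commute.refl x).pow_pow _ _).zpow_zpow _ _, ⟨e, ?_⟩, ?_⟩
  · rw [← zpow_natCast, ← zpow_natCast, ← zpow_mul, ← zpow_mul, ← zpow_add, ← Nat.gcd_eq_gcd_ab,
      hcop.gcd_eq_one]
    simp
  · rw [← zpow_natCast, ← zpow_mul, mul_comm, zpow_mul, zpow_natCast, ← pow_mul, mul_comm r, ← hfac,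
      pow_orderOf_eq_one, one_zpow]
  · intro hd
    apply hr
    refine hd.trans (orderOf_dvd_of_pow_eq_one ?_)
    rw [← zpow_natCast, ← zpow_mul, mul_comm, zpow_mul, zpow_natCast, ← pow_mul, ← hfac,
      pow_orderOf_eq_one, one_zpow]

/-- If `p²` does not divide the class size of `x`, a conjugate of `x` centralises a subgroup of
index dividing `p` of a given Sylow `p`-subgroup. -/
theorem exists_conj_centralize (P : Sylow p G) (x : G)
    (hx : ¬ p ^ 2 ∣ (centralizer ({x} : Set G)).index) :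
    ∃ (g : G) (M : Subgroup G), M ≤ P ∧ Nat.card (P : Subgroup G) ∣ p * Nat.card M ∧
      ∀ m ∈ M, g * x * g⁻¹ * m = m * (g * x * g⁻¹) := by
  set C := centralizer ({x} : Set G) with hC
  obtain ⟨Q⟩ := (inferInstance : Nonempty (Sylow p C))
  obtain ⟨P', hP'⟩ := (Q.isPGroup'.map C.subtype).exists_le_sylow
  obtain ⟨g, hg⟩ := MulAction.exists_smul_eq G P' P
  refine ⟨g, ((Q : Subgroup C).map C.subtype).map (MulAut.conj g).toMonoidHom, ?_, ?_, ?_⟩
  · rw [← hg]
    exact map_mono hP'
  · rw [card_map_of_injective (MulAut.conj g).injective, card_map_of_injective C.subtype_injective,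
      Q.card_eq_multiplicity, P.card_eq_multiplicity, ← pow_succ']
    refine pow_dvd_pow p ?_
    rw [← C.card_mul_index, Nat.factorization_mul Nat.card_pos.ne' index_ne_zero_of_finite,
      Finsupp.add_apply]
    have : C.index.factorization p ≤ 1 := by
      by_contra h2
      exact hx ((pow_dvd_pow p (by omega : 2 ≤ C.index.factorization p)).trans
        (Nat.ordProj_dvd _ _))
    omega
  · rintro _ ⟨_, ⟨y, -, rfl⟩, rfl⟩
    have hy : (y : G) * x = x * y := mem_centralizer_singleton_iff.1 y.2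
    show g * x * g⁻¹ * (g * y * g⁻¹) = g * (y : G) * g⁻¹ * (g * x * g⁻¹)
    calc g * x * g⁻¹ * (g * (y : G) * g⁻¹) = g * (x * y) * g⁻¹ := by group
      _ = g * (y * x) * g⁻¹ := by rw [hy]
      _ = _ := by group

omit [Finite G] in
/-- A subgroup of index dividing `p` of a `p`-group contains `p`-th powers and commutators. -/
theorem pow_commutator_mem_of_index_dvd {S : Subgroup G} [Finite S] (hS : IsPGroup p S)
    (M : Subgroup G) (hM : M ≤ S) (hidx : Nat.card S ∣ p * Nat.card M) :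
    ∀ a ∈ S, ∀ b ∈ S, a ^ p ∈ M ∧ ⁅a, b⁆ ∈ M := by
  intro a ha b hb
  set M' := M.subgroupOf S with hM'
  have hc : Nat.card M' = Nat.card M := Nat.card_congr (subgroupOfEquivOfLe hM).toEquiv
  have hd : M'.index ∣ p := by
    rw [← M'.card_mul_index, hc, mul_comm p] at hidx
    exact (Nat.mul_dvd_mul_iff_left (hc ▸ Nat.card_pos)).1 hidx
  rcases (Nat.dvd_prime hp.out).1 hd with h1 | h1
  · have : S ≤ M := subgroupOf_eq_top.1 (index_eq_one.1 h1)
    exact ⟨pow_mem (this ha) p, by rw [commutatorElement_def]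
                                   exact mul_mem (mul_mem (mul_mem (this ha) (this hb))
                                     (inv_mem (this ha))) (inv_mem (this hb))⟩
  · obtain ⟨k, hk⟩ := IsPGroup.iff_card.1 hS
    have hk0 : k ≠ 0 := by
      rintro rfl
      have := M'.index_dvd_card
      rw [h1, hk, pow_zero, Nat.dvd_one] at this
      exact hp.out.ne_one this
    haveI : M'.Normal := normal_of_index_eq_minFac_card
      (by rw [h1, hk, hp.out.pow_minFac hk0])
    have hq : Nat.card (S ⧸ M') = p := by rw [← index_eq_card, h1]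
    haveI : IsCyclic (S ⧸ M') := isCyclic_of_prime_card hq
    letI : CommGroup (S ⧸ M') := IsCyclic.commGroup
    refine ⟨?_, ?_⟩
    · have : (⟨a, ha⟩ : S) ^ p ∈ M' := by
        rw [← QuotientGroup.eq_one_iff, QuotientGroup.mk_pow, ← hq]
        exact pow_card_eq_one'
      exact mem_subgroupOf.1 this
    · have : ⁅(⟨a, ha⟩ : S), ⟨b, hb⟩⁆ ∈ M' := by
        rw [← QuotientGroup.eq_one_iff, ← QuotientGroup.mk'_apply, map_commutatorElement,
          commutatorElement_eq_one_iff_mul_comm]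
        exact mul_comm _ _
      exact mem_subgroupOf.1 this

/-- If `p²` divides no class size, then `p`-th powers and commutators of a Sylow `p`-subgroup are
central. -/
theorem pow_commutator_central (P : Sylow p G)
    (h : ∀ x : G, ¬ p ^ 2 ∣ (centralizer ({x} : Set G)).index) :
    ∀ a ∈ (P : Subgroup G), ∀ b ∈ (P : Subgroup G), a ^ p ∈ center G ∧ ⁅a, b⁆ ∈ center G := by
  intro a ha b hb
  have htop : centralizer ({a ^ p, ⁅a, b⁆} : Set G) = ⊤ :=
    CfsgLib.ConjCover.eq_top_of_conj_cover _ fun x => by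
      obtain ⟨g, M, hM, hidx, hcomm⟩ := exists_conj_centralize P x (h x)
      obtain ⟨h1, h2⟩ := pow_commutator_mem_of_index_dvd P.isPGroup' M hM hidx a ha b hb
      refine ⟨g, mem_centralizer_iff.2 ?_⟩
      rintro m (rfl | rfl)
      · exact (hcomm _ h1).symm
      · exact (hcomm _ h2).symm
  rw [centralizer_eq_top_iff_subset] at htop
  exact ⟨htop (by simp), htop (by simp)⟩

/-- Normal `p`-complements lift along quotients by central `p`-subgroups. -/
theorem npc_of_central_quotient (Z : Subgroup G) [Z.Normal] (hZ : Z ≤ center G) (hZp : IsPGroup p Z)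
    (h : Cfsg.HasNormalPComplement p (G ⧸ Z)) : Cfsg.HasNormalPComplement p G := by
  refine CfsgLib.Transfer.hasNormalPComplement_of_frobeniusCond fun Q hQ g hg hgc => ?_
  have hF := CfsgLib.Transfer.frobeniusCond_of_hasNormalPComplement h
  have hg' : (g : G ⧸ Z) ∈ normalizer (Q.map (QuotientGroup.mk' Z) : Set (G ⧸ Z)) := by
    exact le_normalizer_map (H := Q) (QuotientGroup.mk' Z) (mem_map_of_mem _ hg)
  have hc := hF (Q.map (QuotientGroup.mk' Z)) (hQ.map _) (g : G ⧸ Z) hg'
    (hgc.coprime_dvd_left (orderOf_map_dvd (QuotientGroup.mk' Z) g))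
  rw [mem_centralizer_iff] at hc ⊢
  intro q hq
  have h1 : ((g * q * g⁻¹ * q⁻¹ : G) : G ⧸ Z) = 1 := by
    rw [QuotientGroup.mk_mul, QuotientGroup.mk_mul, QuotientGroup.mk_mul, QuotientGroup.mk_inv,
      QuotientGroup.mk_inv, ← hc (q : G ⧸ Z) ⟨q, hq, rfl⟩, mul_inv_cancel_right, mul_inv_cancel]
  have hz : g * q * g⁻¹ * q⁻¹ ∈ Z := (QuotientGroup.eq_one_iff _).1 h1
  set z := g * q * g⁻¹ * q⁻¹ with hzdef
  have hzc : ∀ y : G, y * z = z * y := mem_center_iff.1 (hZ hz)
  have hiter : ∀ i : ℕ, g ^ i * q * (g ^ i)⁻¹ = z ^ i * q := by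
    intro i
    induction i with
    | zero => simp
    | succ i ih =>
      calc g ^ (i + 1) * q * (g ^ (i + 1))⁻¹ = g * (g ^ i * q * (g ^ i)⁻¹) * g⁻¹ := by
            rw [pow_succ']; group
        _ = g * (z ^ i * q) * g⁻¹ := by rw [ih]
        _ = z ^ i * (g * q * g⁻¹) := by
            rw [← mul_assoc g, ((show Commute g z from hzc g).pow_right i).eq]; group
        _ = z ^ (i + 1) * q := by rw [pow_succ, hzdef]; group
  have h2 := hiter (orderOf g)
  rw [pow_orderOf_eq_one, one_mul, inv_one, mul_one, right_eq_mul] at h2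
  obtain ⟨k, hk⟩ := hZp ⟨z, hz⟩
  have hk' : z ^ p ^ k = 1 := congrArg Subtype.val hk
  have h3 : z = 1 := orderOf_eq_one_iff.1 (Nat.eq_one_of_dvd_coprimes (hgc.pow_right k)
    (orderOf_dvd_of_pow_eq_one h2) (orderOf_dvd_of_pow_eq_one hk'))
  rw [hzdef, mul_inv_eq_one, mul_inv_eq_iff_eq_mul] at h3
  exact h3.symm

omit hp in
/-- The conjugates of the elements `w * y`, `y` of order prime to `p` in a subgroup `H` with a normal
`p`-complement that centralises `w`, number at most `|G| / |P|`. -/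
theorem ncard_conj_le [Fact p.Prime] (P : Sylow p G) (H : Subgroup G) (hPH : (P : Subgroup G) ≤ H)
    (hH : Cfsg.HasNormalPComplement p H) (w : G) (hw : ∀ c ∈ H, c * w = w * c) :
    {x : G | ∃ g : G, ∃ y : G, y ∈ H ∧ ¬ p ∣ orderOf y ∧ x = g * (w * y) * g⁻¹}.ncard *
      Nat.card (P : Subgroup G) ≤ Nat.card G := by
  classical
  obtain ⟨PH, K, hK, hKc⟩ := hH
  haveI := hK
  have hcard : Nat.card (PH : Subgroup H) = Nat.card (P : Subgroup G) := by
    rw [PH.card_eq_multiplicity, ← (P.subtype hPH).card_eq_multiplicity, Sylow.coe_subtype,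
      Nat.card_congr (subgroupOfEquivOfLe hPH).toEquiv]
  have hmem : ∀ y : H, ¬ p ∣ orderOf y → y ∈ K := by
    intro y hy
    rw [← QuotientGroup.eq_one_iff, ← orderOf_eq_one_iff]
    obtain ⟨k, hk⟩ := IsPGroup.iff_card.1 PH.isPGroup'
    refine Nat.eq_one_of_dvd_coprimes
      (((Fact.out : p.Prime).coprime_iff_not_dvd.2 hy).symm.pow_right k)
      (orderOf_map_dvd (QuotientGroup.mk' K) y) ?_
    rw [← hk, ← hKc.symm.index_eq_card, index_eq_card]
    exact orderOf_dvd_natCard _
  let f : (G ⧸ H) × K → G := fun u => u.1.out * (w * ((u.2 : H) : G)) * u.1.out⁻¹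
  have hsub : {x : G | ∃ g : G, ∃ y : G, y ∈ H ∧ ¬ p ∣ orderOf y ∧ x = g * (w * y) * g⁻¹} ⊆
      Set.range f := by
    rintro x ⟨g, y, hy, hyo, rfl⟩
    obtain ⟨⟨c, hc⟩, hcc⟩ := QuotientGroup.mk_out_eq_mul H g
    have hyK : (⟨y, hy⟩ : H) ∈ K := hmem _ (by rwa [Subgroup.orderOf_mk])
    refine ⟨((g : G ⧸ H), ⟨⟨c, hc⟩⁻¹ * ⟨y, hy⟩ * ⟨c, hc⟩, ?_⟩), ?_⟩
    · have := hK.conj_mem _ hyK (⟨c, hc⟩ : H)⁻¹
      rwa [inv_inv] at this
    · show (g : G ⧸ H).out * (w * (c⁻¹ * y * c)) * (g : G ⧸ H).out⁻¹ = g * (w * y) * g⁻¹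
      rw [hcc]
      show g * c * (w * (c⁻¹ * y * c)) * (g * c)⁻¹ = g * (w * y) * g⁻¹
      calc g * c * (w * (c⁻¹ * y * c)) * (g * c)⁻¹ = g * (c * w) * (c⁻¹ * y) * g⁻¹ := by group
        _ = g * (w * c) * (c⁻¹ * y) * g⁻¹ := by rw [hw c hc]
        _ = g * (w * y) * g⁻¹ := by group
  have h1 : {x : G | ∃ g : G, ∃ y : G, y ∈ H ∧ ¬ p ∣ orderOf y ∧ x = g * (w * y) * g⁻¹}.ncard ≤
      H.index * Nat.card K := by
    refine (Set.ncard_le_ncard hsub).trans ?_
    rw [← Nat.card_coe_set_eq]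
    refine (Finite.card_range_le f).trans ?_
    rw [Nat.card_prod, ← index_eq_card]
  refine (Nat.mul_le_mul_right _ h1).trans ?_
  rw [mul_assoc, ← hcard, hKc.card_mul_card, index_mul_card]

/-- A `p`-part of a class size at most `p` passes to the centralizer of an element of an abelian
Sylow subgroup. -/
theorem not_sq_dvd_centralizer (hab : ∀ P : Sylow p G, ∀ a ∈ (P : Subgroup G),
    ∀ b ∈ (P : Subgroup G), a * b = b * a) (u : G) (hu : ∃ k, u ^ p ^ k = 1)
    (H : Subgroup G) (hH : H = centralizer ({u} : Set G)) (y : H) (hy : ¬ p ^ 2 ∣ (centralizer ({(y : G)} : Set G)).index) :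
    ¬ p ^ 2 ∣ (centralizer ({y} : Set H)).index := by
  set C := centralizer ({(y : G)} : Set G) with hC
  intro hd
  obtain ⟨k, hk⟩ := hu
  have hyu : (y : G) * u = u * y := mem_centralizer_singleton_iff.1 (show (y : G) ∈ centralizer ({u} : Set G) from hH ▸ y.2)
  have huC : u ∈ C := mem_centralizer_singleton_iff.2 hyu.symm
  have hup : IsPGroup p (zpowers (⟨u, huC⟩ : C)) := by
    obtain ⟨j, -, hj⟩ := (Nat.dvd_prime_pow hp.out).1
      (orderOf_dvd_of_pow_eq_one (x := (⟨u, huC⟩ : C)) (n := p ^ k) (Subtype.ext hk))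
    exact IsPGroup.of_card (n := j) (by rw [Nat.card_zpowers, hj])
  obtain ⟨Q, hQ⟩ := hup.exists_le_sylow
  obtain ⟨R, hR⟩ := (Q.isPGroup'.map C.subtype).exists_le_sylow
  have huR : u ∈ (R : Subgroup G) := hR ⟨⟨u, huC⟩, hQ (mem_zpowers _), rfl⟩
  have hQH : (Q : Subgroup C).map C.subtype ≤ H := fun q hq =>
    hH ▸ mem_centralizer_singleton_iff.2 (hab R q (hR hq) u huR)
  set D := centralizer ({y} : Set H) with hD
  have hsub : ((Q : Subgroup C).map C.subtype).subgroupOf H ≤ D := by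
    rintro ⟨q, hqH⟩ hq
    obtain ⟨q', -, hq'⟩ := mem_subgroupOf.1 hq
    refine mem_centralizer_singleton_iff.2 (Subtype.ext ?_)
    show q * (y : G) = (y : G) * q
    rw [show q = (q' : G) from hq'.symm]
    exact mem_centralizer_singleton_iff.1 q'.2
  have h1 : (Nat.card C).factorization p ≤ (Nat.card D).factorization p := by
    have h2 := card_dvd_of_le hsub
    rw [Nat.card_congr (subgroupOfEquivOfLe hQH).toEquiv,
      card_map_of_injective C.subtype_injective, Q.card_eq_multiplicity] at h2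
    exact (hp.out.pow_dvd_iff_le_factorization Nat.card_pos.ne').1 h2
  have h3 : (Nat.card D).factorization p + 2 ≤ (Nat.card H).factorization p := by
    rw [← D.card_mul_index, Nat.factorization_mul Nat.card_pos.ne' index_ne_zero_of_finite,
      Finsupp.add_apply]
    have := (hp.out.pow_dvd_iff_le_factorization index_ne_zero_of_finite).1 hd
    omega
  have h4 : (Nat.card H).factorization p ≤ (Nat.card G).factorization p :=
    (Nat.factorization_le_iff_dvd Nat.card_pos.ne' Nat.card_pos.ne').2 (card_subgroup_dvd_card H) p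
  apply hy
  rw [hp.out.pow_dvd_iff_le_factorization index_ne_zero_of_finite]
  rw [← C.card_mul_index, Nat.factorization_mul Nat.card_pos.ne' index_ne_zero_of_finite,
    Finsupp.add_apply] at h4
  omega

end CfsgLib.SquarefreeClass
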